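import Cfsg.Agent.H614.Alt

/-!
# The degree formula (helper704)

* `FM_ones` : `F_β (1^n) · ∏ β_i ! = n ! · ∏_{i < j} (β_j - β_i)` for `∑ β = n + ∑ i`.
-/

set_option autoImplicit false
set_option linter.unusedSectionVars false

namespace Cfsg.Agent.H704

open Finset Cfsg.Agent.H614

variable {m : ℕ}

/-- the term of a permutation -/
def tm (β : Fin m → ℕ) (σ : Equiv.Perm (Fin m)) : ℚ :=
  ∏ i, ((β i).descFactorial (σ i) : ℚ)

theorem prod_update_factorial (β : Fin m → ℕ) (j : Fin m) (h : 1 ≤ β j) :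
    ∏ i, (β i).factorial = β j * ∏ i, (dn β j 1 i).factorial := by
  rw [← Finset.mul_prod_erase _ _ (mem_univ j), ← Finset.mul_prod_erase univ (fun i => (dn β j 1 i).factorial)
    (mem_univ j), dn_self]
  have h1 : ∏ i ∈ univ.erase j, (dn β j 1 i).factorial = ∏ i ∈ univ.erase j, (β i).factorial :=
    Finset.prod_congr rfl fun i hi => by rw [dn_ne _ _ (Finset.ne_of_mem_erase hi)]
  rw [h1]
  obtain ⟨b, hb⟩ : ∃ b, β j = b + 1 := ⟨β j - 1, by omega⟩
  rw [hb, Nat.factorial_succ, Nat.add_sub_cancel]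
  ring

theorem tm_dn (β : Fin m → ℕ) (j : Fin m) (h : 1 ≤ β j) (σ : Equiv.Perm (Fin m)) :
    (β j : ℚ) * tm (dn β j 1) σ = ((β j : ℚ) - (σ j : ℕ)) * tm β σ := by
  unfold tm
  rw [← Finset.mul_prod_erase _ _ (mem_univ j), ← Finset.mul_prod_erase univ (fun i => ((β i).descFactorial (σ i) : ℚ))
    (mem_univ j), dn_self]
  rw [Finset.prod_congr rfl (g := fun i => ((β i).descFactorial (σ i) : ℚ))]
  · obtain ⟨b, hb⟩ : ∃ b, β j = b + 1 := ⟨β j - 1, by omega⟩
    rw [hb, Nat.add_sub_cancel, ← mul_assoc, ← mul_assoc]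
    congr 1
    generalize ((σ j : Fin m) : ℕ) = s
    rcases Nat.lt_or_ge b s with hs | hs
    · rcases Nat.lt_or_ge (b + 1) s with hs' | hs'
      · rw [Nat.descFactorial_of_lt hs, Nat.descFactorial_of_lt hs']; simp
      · have : s = b + 1 := by omega
        subst this
        rw [Nat.descFactorial_of_lt (Nat.lt_succ_self b)]
        simp
    · have h1 : (b + 1).descFactorial s * (b + 1 - s) = (b + 1) * b.descFactorial s := by
        rw [mul_comm, ← Nat.descFactorial_succ, Nat.succ_descFactorial_succ]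
      have h2 : (((b + 1).descFactorial s * (b + 1 - s) : ℕ) : ℚ) = (((b + 1) * b.descFactorial s : ℕ) : ℚ) := by
        rw [h1]
      rw [Nat.cast_mul, Nat.cast_mul, Nat.cast_sub (by omega)] at h2
      rw [← h2]
      push_cast
      ring
  · intro i hi
    rw [dn_ne _ _ (Finset.ne_of_mem_erase hi)]

theorem FM_ones_sum (n : ℕ) : ∀ β : Fin m → ℕ, ∑ i, β i = n + ∑ i : Fin m, (i : ℕ) →
    (FM (Multiset.replicate n 1) β : ℚ) * ∏ i, ((β i).factorial : ℚ) =
      n.factorial * ∑ σ : Equiv.Perm (Fin m), (sg σ : ℚ) * tm β σ := by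
  induction n with
  | zero =>
    intro β hβ
    rw [Multiset.replicate_zero, FM_zero, vac, Nat.factorial_zero, Nat.cast_one, one_mul]
    push_cast
    rw [Finset.sum_mul]
    refine Finset.sum_congr rfl fun σ _ => ?_
    by_cases h : β = fun i => ((σ i : Fin m) : ℕ)
    · rw [if_pos h, tm]
      congr 1
      refine Finset.prod_congr rfl fun i _ => ?_
      rw [h, Nat.descFactorial_self]
    · rw [if_neg h, zero_mul]
      symm
      have : ∃ i, β i < σ i := by
        by_contra hne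
        push Not at hne
        have h1 : ∑ i, ((σ i : Fin m) : ℕ) = ∑ i, β i := by
          rw [hβ, zero_add]; exact Equiv.sum_comp σ (fun i : Fin m => (i : ℕ))
        have h2 := (Finset.sum_eq_sum_iff_of_le (fun i _ => hne i)).1 h1
        exact h (funext fun i => (h2 i (mem_univ i)).symm)
      obtain ⟨i, hi⟩ := this
      rw [tm, Finset.prod_eq_zero (mem_univ i), mul_zero]
      rw [Nat.descFactorial_of_lt hi, Nat.cast_zero]
  | succ n ih =>
    intro β hβ
    rw [Multiset.replicate_succ, FM_cons]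
    push_cast
    rw [Finset.sum_mul]
    have h1 : ∀ j, (if 1 ≤ β j then ((FM (Multiset.replicate n 1) (dn β j 1) : ℤ) : ℚ) else 0) *
        ∏ i, ((β i).factorial : ℚ) =
        n.factorial * ∑ σ : Equiv.Perm (Fin m), (sg σ : ℚ) * (((β j : ℚ) - (σ j : ℕ)) * tm β σ) := by
      intro j
      split_ifs with h
      · have h2 := ih (dn β j 1) (by have := sum_dn β j h; omega)
        have h3 : ∏ i, ((β i).factorial : ℚ) = β j * ∏ i, ((dn β j 1 i).factorial : ℚ) := by
          have := prod_update_factorial β j h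
          exact_mod_cast this
        rw [h3, show (FM (Multiset.replicate n 1) (dn β j 1) : ℚ) * (β j * ∏ i, ((dn β j 1 i).factorial : ℚ)) =
          β j * ((FM (Multiset.replicate n 1) (dn β j 1) : ℚ) * ∏ i, ((dn β j 1 i).factorial : ℚ)) by ring, h2,
          mul_left_comm, Finset.mul_sum]
        congr 1
        refine Finset.sum_congr rfl fun σ _ => ?_
        rw [← tm_dn β j h σ]
        ring
      · rw [zero_mul]
        symm
        rw [Finset.sum_eq_zero, mul_zero]
        intro σ _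
        have h0 : β j = 0 := by omega
        rw [h0]
        rcases Nat.eq_zero_or_pos ((σ j : Fin m) : ℕ) with hs | hs
        · rw [hs]; simp
        · rw [tm, Finset.prod_eq_zero (mem_univ j), mul_zero, mul_zero]
          rw [h0, Nat.descFactorial_of_lt hs, Nat.cast_zero]
    rw [Finset.sum_congr rfl (fun j _ => h1 j), ← Finset.mul_sum, Finset.sum_comm, Nat.factorial_succ]
    rw [show (((n + 1) * n.factorial : ℕ) : ℚ) * ∑ σ : Equiv.Perm (Fin m), (sg σ : ℚ) * tm β σ =
      n.factorial * ∑ σ : Equiv.Perm (Fin m), ((n + 1 : ℕ) : ℚ) * ((sg σ : ℚ) * tm β σ) by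
        rw [Finset.mul_sum, Finset.mul_sum]
        refine Finset.sum_congr rfl fun σ _ => ?_
        push_cast; ring]
    congr 1
    refine Finset.sum_congr rfl fun σ _ => ?_
    have h4 : ∑ j, ((β j : ℚ) - ((σ j : Fin m) : ℕ)) = ((n + 1 : ℕ) : ℚ) := by
      rw [Finset.sum_sub_distrib]
      have h5 : ∑ j, (((σ j : Fin m) : ℕ) : ℚ) = ∑ j : Fin m, ((j : ℕ) : ℚ) :=
        Equiv.sum_comp σ (fun j : Fin m => ((j : ℕ) : ℚ))
      rw [h5, ← Nat.cast_sum, hβ]
      push_cast
      ring
    rw [← h4, Finset.sum_mul]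
    refine Finset.sum_congr rfl fun j _ => ?_
    ring

theorem sum_tm (β : Fin m → ℕ) : ∑ σ : Equiv.Perm (Fin m), (sg σ : ℚ) * tm β σ =
    ∏ i, ∏ j ∈ Ioi i, ((β j : ℚ) - β i) := by
  have h1 : (Matrix.of fun i j : Fin m => ((descPochhammer ℚ j).eval (β i : ℚ))).det =
      ∑ σ : Equiv.Perm (Fin m), (sg σ : ℚ) * tm β σ := by
    rw [← Matrix.det_transpose, Matrix.det_apply']
    refine Finset.sum_congr rfl fun σ _ => ?_
    have h2 : ((sg σ : ℤ) : ℚ) = ((Equiv.Perm.sign σ : ℤ) : ℚ) := rfl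
    rw [h2, tm]
    congr 1
    refine Finset.prod_congr rfl fun i _ => ?_
    rw [Matrix.transpose_apply, Matrix.of_apply, descPochhammer_eval_eq_descFactorial]
  have h2 := Matrix.det_eval_matrixOfPolynomials_eq_det_vandermonde (fun i : Fin m => (β i : ℚ))
    (fun j => descPochhammer ℚ j) (fun j => descPochhammer_natDegree ℚ j) (fun j => monic_descPochhammer ℚ j)
  rw [← h1, ← Matrix.det_vandermonde, h2]

/-- **The degree formula.** -/
theorem FM_ones {n : ℕ} {β : Fin m → ℕ} (hβ : ∑ i, β i = n + ∑ i : Fin m, (i : ℕ)) :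
    (FM (Multiset.replicate n 1) β : ℚ) * ∏ i, ((β i).factorial : ℚ) =
      n.factorial * ∏ i, ∏ j ∈ Ioi i, ((β j : ℚ) - β i) := by
  rw [FM_ones_sum n β hβ, sum_tm]

end Cfsg.Agent.H704
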