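import Cfsg.Agent.H704.Defs

/-!
# The conjugate partition (helper704)
-/

set_option autoImplicit false
set_option linter.unusedSectionVars false

namespace Cfsg.Agent.H704

open Finset

/-- weakly decreasing lists of natural numbers (zeros allowed) -/
abbrev Dec (l : List ℕ) : Prop := l.Pairwise (· ≥ ·)

theorem colLen_nil (j : ℕ) : colLen [] j = 0 := rfl

theorem colLen_cons (a : ℕ) (l : List ℕ) (j : ℕ) : colLen (a :: l) j = colLen l j + if j < a then 1 else 0 := by
  unfold colLen
  rw [List.countP_cons]
  simp only [decide_eq_true_eq]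

theorem colLen_eq_zero {l : List ℕ} {j : ℕ} (h : ∀ a ∈ l, a ≤ j) : colLen l j = 0 := by
  unfold colLen
  rw [List.countP_eq_zero]
  intro a ha
  have := h a ha
  simp only [decide_eq_true_eq]
  omega

theorem colLen_le_length (l : List ℕ) (j : ℕ) : colLen l j ≤ l.length := List.countP_le_length

/-- cells in rows and in columns -/
theorem lt_colLen_iff : ∀ {l : List ℕ}, l.Pairwise (· ≥ ·) → ∀ i j : ℕ, i < colLen l j ↔ j < l.getD i 0 := by
  intro l
  induction l with
  | nil => intro _ i j; simp [colLen_nil]
  | cons a l ih =>
    intro h i j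
    have h' := h.of_cons
    have hle : ∀ b ∈ l, b ≤ a := fun b hb => List.rel_of_pairwise_cons h hb
    rw [colLen_cons]
    by_cases hj : j < a
    · rw [if_pos hj]
      cases i with
      | zero => simp only [List.getD_cons_zero]; omega
      | succ i =>
        rw [List.getD_cons_succ, ← ih h' i j]
        omega
    · rw [if_neg hj, colLen_eq_zero (fun b hb => le_trans (hle b hb) (by omega))]
      constructor
      · intro h0; omega
      · intro h0
        exfalso
        cases i with
        | zero => rw [List.getD_cons_zero] at h0; omega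
        | succ i =>
          rw [List.getD_cons_succ] at h0
          have := (ih h' i j).2 h0
          rw [colLen_eq_zero (fun b hb => le_trans (hle b hb) (by omega))] at this
          omega

theorem getD_le_headD {l : List ℕ} (h : l.Pairwise (· ≥ ·)) (i : ℕ) : l.getD i 0 ≤ l.headD 0 := by
  cases l with
  | nil => simp
  | cons a l =>
    cases i with
    | zero => simp
    | succ i =>
      rw [List.getD_cons_succ, List.headD_cons]
      by_cases hi : i < l.length
      · rw [List.getD_eq_getElem _ _ hi]
        exact List.rel_of_pairwise_cons h (List.getElem_mem hi)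
      · rw [List.getD_eq_default _ _ (by omega)]
        exact Nat.zero_le _

theorem colLen_anti (l : List ℕ) {i j : ℕ} (h : i ≤ j) : colLen l j ≤ colLen l i := by
  unfold colLen
  apply List.countP_mono_left
  intro x _ hx
  simp only [decide_eq_true_eq] at hx ⊢
  omega

theorem length_transpose (l : List ℕ) : (transpose l).length = l.headD 0 := by
  unfold transpose
  rw [List.length_map, List.length_range]

theorem getD_transpose {l : List ℕ} (h : l.Pairwise (· ≥ ·)) (j : ℕ) : (transpose l).getD j 0 = colLen l j := by
  by_cases hj : j < l.headD 0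
  · rw [List.getD_eq_getElem _ _ (by rw [length_transpose]; exact hj)]
    simp [transpose]
  · rw [List.getD_eq_default _ _ (by rw [length_transpose]; omega)]
    symm
    by_contra hne
    have h0 : 0 < colLen l j := Nat.pos_of_ne_zero hne
    rw [lt_colLen_iff h] at h0
    have := getD_le_headD h 0
    omega

theorem pairwise_transpose (l : List ℕ) : (transpose l).Pairwise (· ≥ ·) := by
  unfold transpose
  rw [List.pairwise_map]
  apply List.Pairwise.imp _ List.pairwise_lt_range
  intro a b hab
  exact colLen_anti l hab.le

theorem colLen_transpose' {l : List ℕ} (h : l.Pairwise (· ≥ ·)) (i : ℕ) : colLen (transpose l) i = l.getD i 0 := by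
  apply eq_of_forall_lt_iff
  intro j
  rw [lt_colLen_iff (pairwise_transpose l), getD_transpose h, lt_colLen_iff h]

/-- the sum of a list as a sum over the index set -/
theorem sum_eq_sum_range : ∀ (l : List ℕ), l.sum = ∑ i ∈ range l.length, l.getD i 0 := by
  intro l
  induction l with
  | nil => rfl
  | cons a l ih =>
    rw [List.sum_cons, List.length_cons, Finset.sum_range_succ', ih, add_comm]
    simp

theorem colLen_eq_sum : ∀ (l : List ℕ) (j : ℕ), colLen l j = ∑ i ∈ range l.length, if j < l.getD i 0 then 1 else 0 := by
  intro l
  induction l with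
  | nil => intro j; rfl
  | cons a l ih =>
    intro j
    rw [colLen_cons, List.length_cons, Finset.sum_range_succ', ih]
    simp

/-- the cells of the diagram -/
def cells (l : List ℕ) : Finset (Σ _ : ℕ, ℕ) := (range l.length).sigma fun i => range (l.getD i 0)

theorem mem_cells {l : List ℕ} (x : Σ _ : ℕ, ℕ) : x ∈ cells l ↔ x.2 < l.getD x.1 0 := by
  unfold cells
  rw [mem_sigma, mem_range, mem_range]
  constructor
  · exact fun h => h.2
  · intro h
    refine ⟨?_, h⟩
    by_contra hne
    rw [List.getD_eq_default _ _ (by omega)] at h
    omega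

theorem sum_transpose {l : List ℕ} (h : l.Pairwise (· ≥ ·)) : (transpose l).sum = l.sum := by
  have h1 : l.sum = (cells l).card := by
    unfold cells
    rw [card_sigma, sum_eq_sum_range]
    simp
  have h2 : (transpose l).sum = (cells (transpose l)).card := by
    unfold cells
    rw [card_sigma, sum_eq_sum_range]
    simp
  rw [h1, h2]
  apply card_bij' (fun x _ => (⟨x.2, x.1⟩ : Σ _ : ℕ, ℕ)) (fun x _ => (⟨x.2, x.1⟩ : Σ _ : ℕ, ℕ))
  · intro x hx
    rw [mem_cells] at hx ⊢
    rw [getD_transpose h] at hx
    exact (lt_colLen_iff h _ _).1 hx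
  · intro x hx
    rw [mem_cells] at hx ⊢
    rw [getD_transpose h]
    exact (lt_colLen_iff h _ _).2 hx
  · intro x _; rfl
  · intro x _; rfl

theorem rowHook_eq (a : ℕ) (l : List ℕ) : rowHook a l = ∏ j ∈ range a, (a - j + colLen l j) := by
  unfold rowHook
  rfl

/-- the hook length of a cell -/
def hk (l : List ℕ) (i j : ℕ) : ℕ := l.getD i 0 + colLen l j - i - j - 1

theorem hookProd_eq : ∀ {l : List ℕ}, l.Pairwise (· ≥ ·) → hookProd l = ∏ x ∈ cells l, hk l x.1 x.2 := by
  intro l
  induction l with
  | nil => intro _; rfl
  | cons a l ih =>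
    intro h
    have h' := h.of_cons
    have hle : ∀ b ∈ l, b ≤ a := fun b hb => List.rel_of_pairwise_cons h hb
    rw [hookProd, ih h', rowHook_eq]
    unfold cells
    rw [prod_sigma, prod_sigma, List.length_cons, Finset.prod_range_succ', mul_comm]
    congr 1
    · apply prod_congr rfl
      intro i hi
      simp only [List.getD_cons_succ]
      apply prod_congr rfl
      intro j hj
      rw [mem_range] at hi hj
      have h1 : j < a := by
        rw [List.getD_eq_getElem _ _ hi] at hj
        exact lt_of_lt_of_le hj (hle _ (List.getElem_mem hi))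
      unfold hk
      rw [List.getD_cons_succ, colLen_cons, if_pos h1]
      omega
    · simp only [List.getD_cons_zero]
      apply prod_congr rfl
      intro j hj
      rw [mem_range] at hj
      unfold hk
      rw [List.getD_cons_zero, colLen_cons, if_pos hj]
      omega

theorem hookProd_transpose' {l : List ℕ} (h : l.Pairwise (· ≥ ·)) : hookProd (transpose l) = hookProd l := by
  rw [hookProd_eq h, hookProd_eq (pairwise_transpose l)]
  apply prod_bij' (fun x _ => (⟨x.2, x.1⟩ : Σ _ : ℕ, ℕ)) (fun x _ => (⟨x.2, x.1⟩ : Σ _ : ℕ, ℕ))
  · intro x hx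
    rw [mem_cells] at hx ⊢
    rw [getD_transpose h] at hx
    exact (lt_colLen_iff h _ _).1 hx
  · intro x hx
    rw [mem_cells] at hx ⊢
    rw [getD_transpose h]
    exact (lt_colLen_iff h _ _).2 hx
  · intro x _; rfl
  · intro x _; rfl
  · intro x hx
    unfold hk
    simp only
    rw [getD_transpose h, colLen_transpose' h]
    omega

theorem isPart_transpose {l : List ℕ} {n : ℕ} (h : IsPart l n) : IsPart (transpose l) n := by
  refine ⟨pairwise_transpose l, ?_, ?_⟩
  · intro a ha
    unfold transpose at ha
    rw [List.mem_map] at ha
    obtain ⟨j, hj, rfl⟩ := ha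
    rw [List.mem_range] at hj
    rw [lt_colLen_iff h.sorted]
    cases l with
    | nil => exact hj
    | cons b l => exact hj
  · rw [sum_transpose h.sorted, h.sum]

theorem colLen_transpose {l : List ℕ} {n : ℕ} (h : IsPart l n) (i : ℕ) : colLen (transpose l) i = l.getD i 0 :=
  colLen_transpose' h.sorted i

theorem hookProd_transpose {l : List ℕ} {n : ℕ} (h : IsPart l n) : hookProd (transpose l) = hookProd l :=
  hookProd_transpose' h.sorted

end Cfsg.Agent.H704
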