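import Cfsg.Agent.H704.Transpose

/-!
# Enumeration of the partitions of `n` with their hook products (helper704)
-/

set_option autoImplicit false
set_option linter.unusedSectionVars false

namespace Cfsg.Agent.H704

/-- check all the partitions `m ++ l` with `m` of sum `r` and all parts of `m` at least `b` -/
def go (chk : List ℕ → ℕ → Bool) : ℕ → ℕ → ℕ → List ℕ → ℕ → Bool
  | 0, _, _, _, _ => false
  | f + 1, r, b, l, H =>
    if r = 0 then chk l H else if r < b then true else
      (List.range (r + 1 - b)).all fun i => go chk f (r - (b + i)) (b + i) ((b + i) :: l) (rowHook (b + i) l * H)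

theorem go_spec (chk : List ℕ → ℕ → Bool) : ∀ (m : List ℕ) (f r b : ℕ) (l : List ℕ) (H : ℕ), go chk f r b l H = true →
    m.Pairwise (· ≤ ·) → (∀ a ∈ m, b ≤ a) → (∀ a ∈ m, 0 < a) → m.sum = r → H = hookProd l →
    chk (m.reverse ++ l) (hookProd (m.reverse ++ l)) = true := by
  intro m
  induction m with
  | nil =>
    intro f r b l H h _ _ _ h4 h5
    cases f with
    | zero => simp [go] at h
    | succ f =>
      rw [List.sum_nil] at h4
      subst h4
      rw [go, if_pos rfl] at h
      rw [List.reverse_nil, List.nil_append, ← h5]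
      exact h
  | cons a m ih =>
    intro f r b l H h h1 h2 h3 h4 h5
    cases f with
    | zero => simp [go] at h
    | succ f =>
      have ha : 0 < a := h3 a (by simp)
      have hb : b ≤ a := h2 a (by simp)
      rw [List.sum_cons] at h4
      rw [go, if_neg (by omega), if_neg (by omega), List.all_eq_true] at h
      have h6 := h (a - b) (by rw [List.mem_range]; omega)
      rw [show b + (a - b) = a by omega] at h6
      rw [List.reverse_cons, List.append_assoc, List.singleton_append]
      refine ih f (r - a) a (a :: l) _ h6 h1.of_cons ?_ ?_ (by omega) ?_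
      · intro c hc; exact List.rel_of_pairwise_cons h1 hc
      · intro c hc; exact h3 c (List.mem_cons_of_mem _ hc)
      · rw [h5, hookProd]

theorem check_of_isPart {chk : List ℕ → ℕ → Bool} {n : ℕ} (h : go chk (n + 1) n 1 [] 1 = true) {l : List ℕ}
    (hl : IsPart l n) : chk l (hookProd l) = true := by
  have := go_spec chk l.reverse (n + 1) n 1 [] 1 h ?_ ?_ ?_ ?_ rfl
  · simpa using this
  · rw [List.pairwise_reverse]; exact hl.sorted
  · intro a ha; exact hl.pos a (List.mem_reverse.1 ha)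
  · intro a ha; exact hl.pos a (List.mem_reverse.1 ha)
  · rw [List.sum_reverse]; exact hl.sum

theorem check_of_isDeg {chk : ℕ → Bool} {n : ℕ} (h : go (fun _ H => chk (Nat.div n.factorial H)) (n + 1) n 1 [] 1 = true)
    {d : ℕ} (hd : IsDeg n d) : chk d = true := by
  obtain ⟨l, hl, he⟩ := hd
  have h1 := check_of_isPart h hl
  have h2 : 0 < hookProd l := by
    apply Nat.pos_of_ne_zero
    intro h0
    rw [h0, mul_zero] at he
    exact absurd he.symm (Nat.factorial_pos n).ne'
  have h3 : Nat.div n.factorial (hookProd l) = d := by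
    rw [← he]
    exact Nat.mul_div_cancel d h2
  rw [h3] at h1
  exact h1

/-! ### The degrees for `5 ≤ n ≤ 9` -/

theorem deg5 {d : ℕ} (h : IsDeg 5 d) : d ∈ [1, 4, 5, 6] := by
  have := check_of_isDeg (chk := fun d => decide (d ∈ [1, 4, 5, 6])) (by decide +kernel) h
  simpa using this

theorem deg6 {d : ℕ} (h : IsDeg 6 d) : d ∈ [1, 5, 9, 10, 16] := by
  have := check_of_isDeg (chk := fun d => decide (d ∈ [1, 5, 9, 10, 16])) (by decide +kernel) h
  simpa using this

theorem deg7 {d : ℕ} (h : IsDeg 7 d) : d ∈ [1, 6, 14, 15, 20, 21, 35] := by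
  have := check_of_isDeg (chk := fun d => decide (d ∈ [1, 6, 14, 15, 20, 21, 35])) (by decide +kernel) h
  simpa using this

theorem deg8 {d : ℕ} (h : IsDeg 8 d) : d ∈ [1, 7, 14, 20, 21, 28, 35, 42, 56, 64, 70, 90] := by
  have := check_of_isDeg (chk := fun d => decide (d ∈ [1, 7, 14, 20, 21, 28, 35, 42, 56, 64, 70, 90]))
    (by decide +kernel) h
  simpa using this

theorem deg9 {d : ℕ} (h : IsDeg 9 d) :
    d ∈ [1, 8, 27, 28, 42, 48, 56, 70, 84, 105, 120, 162, 168, 189, 216] := by
  have := check_of_isDeg (chk := fun d => decide (d ∈ [1, 8, 27, 28, 42, 48, 56, 70, 84, 105, 120, 162, 168, 189, 216]))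
    (by decide +kernel) h
  simpa using this

theorem deg_small {n d : ℕ} (h : IsDeg n d) :
    (n = 5 → d ∈ [1, 4, 5, 6]) ∧ (n = 6 → d ∈ [1, 5, 9, 10, 16]) ∧ (n = 7 → d ∈ [1, 6, 14, 15, 20, 21, 35]) ∧
    (n = 8 → d ∈ [1, 7, 14, 20, 21, 28, 35, 42, 56, 64, 70, 90]) ∧
    (n = 9 → d ∈ [1, 8, 27, 28, 42, 48, 56, 70, 84, 105, 120, 162, 168, 189, 216]) := by
  refine ⟨?_, ?_, ?_, ?_, ?_⟩
  · rintro rfl; exact deg5 h
  · rintro rfl; exact deg6 h
  · rintro rfl; exact deg7 h
  · rintro rfl; exact deg8 h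
  · rintro rfl; exact deg9 h

/-! ### Base cases for the small degrees -/

theorem low9 {l : List ℕ} (h : IsPart l 9) (h1 : l.headD 0 ≤ 7) (h2 : l.length ≤ 7) : 27 * hookProd l ≤ Nat.factorial 9 := by
  have := check_of_isPart (n := 9) (chk := fun l H => decide (8 ≤ l.headD 0) || decide (8 ≤ l.length) ||
    decide (27 * H ≤ Nat.factorial 9)) (by decide +kernel) h
  simp only [Bool.or_eq_true, decide_eq_true_eq] at this
  omega

theorem low10 {l : List ℕ} (h : IsPart l 10) (h1 : l.headD 0 ≤ 8) (h2 : l.length ≤ 8) :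
    35 * hookProd l ≤ Nat.factorial 10 := by
  have := check_of_isPart (n := 10) (chk := fun l H => decide (9 ≤ l.headD 0) || decide (9 ≤ l.length) ||
    decide (35 * H ≤ Nat.factorial 10)) (by decide +kernel) h
  simp only [Bool.or_eq_true, decide_eq_true_eq] at this
  omega

/-! ### Degrees that are prime powers, or twice prime powers, for `10 ≤ n ≤ 18` -/

/-- the check -/
def ppChk (n d : ℕ) : Bool :=
  decide (d = 1) || decide (d = n - 1) || (decide (n = 12) && decide (d = 54)) ||
    [2, 3, 5, 7, 11, 13, 17].all fun p => !(Nat.beq (Nat.mod (2 * p ^ 60) d) 0)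

theorem pp_of_chk {n : ℕ} (h2 : n ≤ 18)
    (hc : go (fun _ H => ppChk n (Nat.div n.factorial H)) (n + 1) n 1 [] 1 = true) {d p a : ℕ} (h : IsDeg n d)
    (hp : p.Prime) (ha : 0 < a) (hd : d = p ^ a ∨ d = 2 * p ^ a) : d = n - 1 ∨ (n = 12 ∧ d = 54) := by
  have h1 := check_of_isDeg (chk := ppChk n) hc h
  have hdvd : d ∣ n.factorial := by
    obtain ⟨l, _, he⟩ := h
    exact ⟨_, he.symm⟩
  have hpd : p ^ a ∣ d := by
    rcases hd with rfl | rfl
    · exact dvd_rfl
    · exact Dvd.intro_left 2 rfl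
  have hpn : p ≤ 18 := by
    have : p ∣ n.factorial := ((dvd_pow_self p ha.ne').trans hpd).trans hdvd
    exact ((hp.dvd_factorial).1 this).trans h2
  have ha60 : a ≤ 60 := by
    by_contra hne
    have h3 : 2 ^ 61 ≤ p ^ a := (Nat.pow_le_pow_left hp.two_le 61).trans (Nat.pow_le_pow_right hp.pos (by omega))
    have h4 : p ^ a ≤ n.factorial := Nat.le_of_dvd (Nat.factorial_pos n) (hpd.trans hdvd)
    have h5 : n.factorial ≤ Nat.factorial 18 := Nat.factorial_le h2
    have h6 : Nat.factorial 18 < 2 ^ 61 := by decide +kernel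
    omega
  have hd60 : d ∣ 2 * p ^ 60 := by
    rcases hd with rfl | rfl
    · exact (pow_dvd_pow p ha60).trans (Dvd.intro_left 2 rfl)
    · exact Nat.mul_dvd_mul_left 2 (pow_dvd_pow p ha60)
  have hpa : 1 < p ^ a := Nat.one_lt_pow ha.ne' hp.one_lt
  unfold ppChk at h1
  simp only [Bool.or_eq_true, Bool.and_eq_true, decide_eq_true_eq, List.all_eq_true, Bool.not_eq_true'] at h1
  rcases h1 with ((h1 | h1) | h1) | h1
  · exfalso
    rcases hd with h0 | h0 <;> omega
  · exact Or.inl h1
  · exact Or.inr h1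
  · exfalso
    have hmem : p ∈ [2, 3, 5, 7, 11, 13, 17] := by
      have : ∀ q ≤ 18, q.Prime → q ∈ [2, 3, 5, 7, 11, 13, 17] := by decide
      exact this p hpn hp
    have h3 := h1 p hmem
    rw [← Bool.not_eq_true, Nat.beq_eq] at h3
    exact h3 (Nat.mod_eq_zero_of_dvd hd60)

theorem pp_small {n d p a : ℕ} (h1 : 10 ≤ n) (h2 : n ≤ 18) (h : IsDeg n d) (hp : p.Prime) (ha : 0 < a)
    (hd : d = p ^ a ∨ d = 2 * p ^ a) : d = n - 1 ∨ (n = 12 ∧ d = 54) := by
  apply pp_of_chk h2 _ h hp ha hd
  interval_cases n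
  all_goals decide +kernel

end Cfsg.Agent.H704
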