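import Cfsg.Agent.H704.Branch
import Cfsg.Agent.H704.Enum

/-!
# The small degrees of the symmetric groups (helper704)

`low_degree` : for `9 ≤ n`, a degree of `S_n` is `1`, `n - 1` or at least `n (n - 3) / 2`.
-/

set_option autoImplicit false
set_option linter.unusedSectionVars false

namespace Cfsg.Agent.H704

open Finset

theorem headD_eq_getD (l : List ℕ) : l.headD 0 = l.getD 0 0 := by cases l <;> rfl

theorem getD_anti {l : List ℕ} (hl : Dec l) {i j : ℕ} (h : i ≤ j) : l.getD j 0 ≤ l.getD i 0 := by
  by_contra hne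
  rw [not_le] at hne
  have h1 := (lt_colLen_iff hl j (l.getD i 0)).2 hne
  have h2 := (lt_colLen_iff hl i (l.getD i 0)).1 (by omega)
  omega

theorem sum_eq_sum_colLen {l : List ℕ} (hl : Dec l) : l.sum = ∑ j ∈ range (l.headD 0), colLen l j := by
  rw [← sum_transpose hl, sum_eq_sum_range, length_transpose]
  apply sum_congr rfl
  intro j _
  rw [getD_transpose hl]

theorem getD_pos_iff {l : List ℕ} (hl : Dec l) (i : ℕ) : 0 < l.getD i 0 ↔ i < colLen l 0 :=
  (lt_colLen_iff hl i 0).symm

/-- the last row is a corner -/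
theorem corner_last {l : List ℕ} (hl : Dec l) (h : 0 < colLen l 0) :
    l.getD (colLen l 0 - 1 + 1) 0 < l.getD (colLen l 0 - 1) 0 := by
  have h1 := (getD_pos_iff hl (colLen l 0 - 1)).2 (by omega)
  have h2 : ¬ 0 < l.getD (colLen l 0 - 1 + 1) 0 := by
    rw [getD_pos_iff hl]; omega
  omega

/-- the corner of the first rows -/
theorem corner_first {l : List ℕ} (hl : Dec l) (h : 0 < l.headD 0) :
    l.getD (colLen l (l.headD 0 - 1) - 1 + 1) 0 < l.getD (colLen l (l.headD 0 - 1) - 1) 0 := by
  have h0 : 0 < colLen l (l.headD 0 - 1) := by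
    rw [lt_colLen_iff hl, ← headD_eq_getD]; omega
  have h1 := (lt_colLen_iff hl (colLen l (l.headD 0 - 1) - 1) (l.headD 0 - 1)).1 (by omega)
  have h2 : ¬ l.headD 0 - 1 < l.getD (colLen l (l.headD 0 - 1) - 1 + 1) 0 := by
    rw [← lt_colLen_iff hl]; omega
  omega

theorem headD_rm_le {l : List ℕ} {i : ℕ} (hi : i < l.length) : (rm l i).headD 0 ≤ l.headD 0 := by
  rw [headD_eq_getD, headD_eq_getD, getD_rm hi]
  split_ifs with h
  · rw [h]; omega
  · exact le_rfl

theorem headD_rm_zero {l : List ℕ} (hi : 0 < l.length) : (rm l 0).headD 0 = l.headD 0 - 1 := by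
  rw [headD_eq_getD, headD_eq_getD, getD_rm hi, if_pos rfl]

theorem headD_rm_pos {l : List ℕ} {i : ℕ} (hi : i < l.length) (h : 0 < i) : (rm l i).headD 0 = l.headD 0 := by
  rw [headD_eq_getD, headD_eq_getD, getD_rm hi, if_neg (by omega)]

theorem colLen_rm_le {l : List ℕ} (hl : Dec l) {i : ℕ} (hi : l.getD (i + 1) 0 < l.getD i 0) (j : ℕ) :
    colLen (rm l i) j ≤ colLen l j := by
  by_contra hne
  rw [not_le, lt_colLen_iff (dec_rm hl hi), getD_rm (lt_length_of_getD hi)] at hne
  have h1 : ¬ j < l.getD (colLen l j) 0 := by rw [← lt_colLen_iff hl]; omega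
  split_ifs at hne with h
  · rw [← h] at hne; omega
  · exact h1 hne

theorem pos_of_deg {l : List ℕ} {n d : ℕ} (hd : d * hookProd l = n.factorial) : 0 < d := by
  apply Nat.pos_of_ne_zero
  rintro rfl
  rw [zero_mul] at hd
  exact absurd hd.symm (Nat.factorial_pos n).ne'

/-- facts on lists whose first part is not everything -/
theorem sum_facts {l : List ℕ} (hl : Dec l) (h : l.headD 0 < l.sum) :
    2 ≤ colLen l 0 ∧ l.getD 1 0 + l.headD 0 ≤ l.sum ∧ 0 < l.headD 0 := by
  have h0 : 0 < l.headD 0 := by
    by_contra hne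
    have h1 := sum_eq_sum_colLen hl
    rw [show l.headD 0 = 0 by omega, sum_range_zero] at h1
    omega
  refine ⟨?_, ?_, h0⟩
  · by_contra hne
    have h1 := sum_eq_sum_colLen hl
    have h2 : ∑ j ∈ range (l.headD 0), colLen l j ≤ ∑ j ∈ range (l.headD 0), 1 :=
      sum_le_sum fun j _ => (colLen_anti l (Nat.zero_le j)).trans (by omega)
    rw [sum_const, card_range, smul_eq_mul, mul_one] at h2
    omega
  · cases l with
    | nil => simp at h
    | cons a l =>
      cases l with
      | nil => simp
      | cons b l =>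
        simp only [List.getD_cons_succ, List.getD_cons_zero, List.headD_cons, List.sum_cons]
        omega

theorem deg_ge_of_head {n : ℕ} (hn : 2 ≤ n) : ∀ (l : List ℕ) (d : ℕ), Dec l → l.sum = n → l.headD 0 = n - 1 →
    d * hookProd l = n.factorial → n - 1 ≤ d := by
  induction n, hn using Nat.le_induction with
  | base =>
    intro l d _ _ _ hd
    exact pos_of_deg hd
  | succ n hn ih =>
    intro l d hl hs hh hd
    obtain ⟨h1, h2, h3⟩ := sum_facts hl (by omega)
    have hc0 : l.getD (0 + 1) 0 < l.getD 0 0 := by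
      rw [← headD_eq_getD, zero_add]; omega
    have hc1 := corner_last hl (by omega)
    have hlen0 : 0 < l.length := lt_length_of_getD hc0
    obtain ⟨d1, -, hd1⟩ := exists_deg (dec_rm hl hc0) (n := n) (by have := sum_rm hc0; omega)
    obtain ⟨d2, hp2, hd2⟩ := exists_deg (dec_rm hl hc1) (n := n) (by have := sum_rm hc1; omega)
    have h4 := branch_two hl hs (i := 0) (k := colLen l 0 - 1) (by omega) hc0 hc1 hd hd1 hd2
    have h5 := ih (rm l 0) d1 (dec_rm hl hc0) (by have := sum_rm hc0; omega) (by rw [headD_rm_zero hlen0]; omega) hd1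
    omega

/-- the claim -/
def LD (n : ℕ) : Prop := ∀ (l : List ℕ) (d : ℕ), Dec l → l.sum = n → d * hookProd l = n.factorial →
  l.headD 0 ≤ n - 2 → colLen l 0 ≤ n - 2 → n * (n - 3) ≤ 2 * d

theorem ld_head {n : ℕ} (hn : 10 ≤ n) (ih : LD n) {l : List ℕ} {d : ℕ} (hl : Dec l) (hs : l.sum = n + 1)
    (hd : d * hookProd l = (n + 1).factorial) (hh : l.headD 0 = n - 1) (hc : colLen l 0 ≤ n - 2) :
    (n + 1) * (n - 2) ≤ 2 * d := by
  obtain ⟨h1, h2, h3⟩ := sum_facts hl (by omega)
  have hc0 : l.getD (0 + 1) 0 < l.getD 0 0 := by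
    rw [← headD_eq_getD, zero_add]; omega
  have hc1 := corner_last hl (by omega)
  have hlen0 : 0 < l.length := lt_length_of_getD hc0
  obtain ⟨d1, -, hd1⟩ := exists_deg (dec_rm hl hc0) (n := n) (by have := sum_rm hc0; omega)
  obtain ⟨d2, hp2, hd2⟩ := exists_deg (dec_rm hl hc1) (n := n) (by have := sum_rm hc1; omega)
  have h4 := branch_two hl hs (i := 0) (k := colLen l 0 - 1) (by omega) hc0 hc1 hd hd1 hd2
  have h5 := ih (rm l 0) d1 (dec_rm hl hc0) (by have := sum_rm hc0; omega) hd1 (by rw [headD_rm_zero hlen0]; omega)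
    ((colLen_rm_le hl hc0 0).trans hc)
  have h6 := deg_ge_of_head (by omega : 2 ≤ n) (rm l (colLen l 0 - 1)) d2 (dec_rm hl hc1)
    (by have := sum_rm hc1; omega) (by rw [headD_rm_pos (lt_length_of_getD hc1) (by omega)]; omega) hd2
  obtain ⟨m, rfl⟩ := Nat.exists_eq_add_of_le hn
  rw [show 10 + m - 3 = m + 7 by omega] at h5
  rw [show 10 + m - 2 = m + 8 by omega]
  have h7 : 10 + m - 1 = m + 9 := by omega
  rw [h7] at h6
  nlinarith

theorem ld_step {n : ℕ} (hn : 10 ≤ n) (ih1 : LD n) (ih2 : LD (n - 1)) : LD (n + 1) := by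
  intro l d hl hs hd hh hc
  have hh' : l.headD 0 ≤ n - 1 := by omega
  have hc' : colLen l 0 ≤ n - 1 := by omega
  rw [show n + 1 - 3 = n - 2 by omega]
  by_cases hA : l.headD 0 = n - 1
  · -- the first row is long
    have h2 := (sum_facts hl (by omega)).2.1
    have h3 : colLen l 0 ≤ n - 2 := by
      -- the sum of the other rows is 2
      have h4 : colLen l 0 ≤ 3 := by
        by_contra hne
        have h5 := sum_eq_sum_range l
        have h6 : colLen l 0 ≤ l.length := colLen_le_length l 0
        have h7 : ∑ i ∈ range 4, l.getD i 0 ≤ ∑ i ∈ range l.length, l.getD i 0 :=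
          sum_le_sum_of_subset (range_subset_range.2 (by omega))
        simp only [sum_range_succ, sum_range_zero] at h7
        rw [← headD_eq_getD] at h7
        have h8 := (getD_pos_iff hl 1).2 (by omega)
        have h9 := (getD_pos_iff hl 2).2 (by omega)
        have h10 := (getD_pos_iff hl 3).2 (by omega)
        omega
      omega
    exact ld_head hn ih1 hl hs hd hA h3
  by_cases hB : colLen l 0 = n - 1
  · -- transpose
    have h0 : (transpose l).headD 0 = n - 1 := by
      rw [headD_eq_getD, getD_transpose hl, hB]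
    refine ld_head hn ih1 (pairwise_transpose l) (by rw [sum_transpose hl, hs])
      (by rw [hookProd_transpose' hl, hd]) h0 ?_
    rw [colLen_transpose' hl, ← headD_eq_getD]
    omega
  · have hpos : 0 < l.headD 0 := by
      by_contra hne
      have h1 := sum_eq_sum_colLen hl
      rw [show l.headD 0 = 0 by omega, sum_range_zero] at h1
      omega
    have hcpos : 0 < colLen l 0 := by
      rw [← getD_pos_iff hl, ← headD_eq_getD]; exact hpos
    have hc1 := corner_last hl hcpos
    have hc2 := corner_first hl hpos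
    by_cases hne : colLen l (l.headD 0 - 1) - 1 = colLen l 0 - 1
    · -- a rectangle
      have h0 : 0 < colLen l (l.headD 0 - 1) := by
        rw [lt_colLen_iff hl, ← headD_eq_getD]; omega
      have hprod : l.headD 0 * colLen l 0 = n + 1 := by
        rw [← hs, sum_eq_sum_colLen hl]
        rw [← smul_eq_mul, ← card_range (l.headD 0), ← sum_const]
        rw [card_range]
        apply sum_congr rfl
        intro j hj
        rw [mem_range] at hj
        have h1 := colLen_anti l (Nat.zero_le j)
        have h2 := colLen_anti l (show j ≤ l.headD 0 - 1 by omega)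
        omega
      obtain ⟨a, ha⟩ : ∃ a, a = l.headD 0 := ⟨_, rfl⟩
      obtain ⟨k, hk⟩ : ∃ k, k = colLen l 0 := ⟨_, rfl⟩
      rw [← ha, ← hk] at hprod
      have ha2 : 2 ≤ a := by
        by_contra h
        have : a = 1 := by omega
        rw [this, one_mul] at hprod
        omega
      have hk2 : 2 ≤ k := by
        by_contra h
        have : k = 1 := by omega
        rw [this, mul_one] at hprod
        omega
      have ha3 : a ≤ n - 3 := by
        have : a * 2 ≤ a * k := Nat.mul_le_mul_left a hk2
        omega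
      have hk3 : k ≤ n - 3 := by
        have : 2 * k ≤ a * k := Nat.mul_le_mul_right k ha2
        omega
      rw [← hk] at hc1
      -- remove the corner
      obtain ⟨d1, -, hd1⟩ := exists_deg (dec_rm hl hc1) (n := n) (by have := sum_rm hc1; omega)
      have h4 := branch_one hl hs hc1 hd hd1
      have hl1 := dec_rm hl hc1
      have hs1 : (rm l (k - 1)).sum = (n - 1) + 1 := by have := sum_rm hc1; omega
      have hlen := lt_length_of_getD hc1
      have e1 : l.getD (k - 1) 0 = a := by
        have h5 := (lt_colLen_iff hl (k - 1) (a - 1)).1 (by rw [ha]; omega)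
        have h6 := getD_le_headD hl (k - 1)
        omega
      have e2 : l.getD (k - 2) 0 = a := by
        have h5 := (lt_colLen_iff hl (k - 2) (a - 1)).1 (by rw [ha]; omega)
        have h6 := getD_le_headD hl (k - 2)
        omega
      have e3 : l.getD k 0 = 0 := by
        have : ¬ 0 < l.getD k 0 := by rw [getD_pos_iff hl]; omega
        omega
      have hc3 : (rm l (k - 1)).getD ((k - 2) + 1) 0 < (rm l (k - 1)).getD (k - 2) 0 := by
        rw [getD_rm hlen, getD_rm hlen, if_pos (by omega), if_neg (by omega), e1, e2]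
        omega
      have hc4 : (rm l (k - 1)).getD ((k - 1) + 1) 0 < (rm l (k - 1)).getD (k - 1) 0 := by
        rw [getD_rm hlen, getD_rm hlen, if_neg (by omega), if_pos rfl, e1, show k - 1 + 1 = k by omega, e3]
        omega
      obtain ⟨d2, -, hd2⟩ := exists_deg (dec_rm hl1 hc3) (n := n - 1) (by have := sum_rm hc3; omega)
      obtain ⟨d3, -, hd3⟩ := exists_deg (dec_rm hl1 hc4) (n := n - 1) (by have := sum_rm hc4; omega)
      have h5 := branch_two hl1 hs1 (i := k - 2) (k := k - 1) (by omega) hc3 hc4
        (by rw [hd1, show n - 1 + 1 = n by omega]) hd2 hd3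
      have hhr : (rm l (k - 1)).headD 0 ≤ a := by rw [ha]; exact headD_rm_le hlen
      have hcr : colLen (rm l (k - 1)) 0 ≤ k := by rw [hk]; rw [← hk]; exact (colLen_rm_le hl hc1 0).trans hk.ge
      have h6 := ih2 _ d2 (dec_rm hl1 hc3) (by have := sum_rm hc3; omega) hd2
        ((headD_rm_le (lt_length_of_getD hc3)).trans (by omega)) ((colLen_rm_le hl1 hc3 0).trans (by omega))
      have h7 := ih2 _ d3 (dec_rm hl1 hc4) (by have := sum_rm hc4; omega) hd3
        ((headD_rm_le (lt_length_of_getD hc4)).trans (by omega)) ((colLen_rm_le hl1 hc4 0).trans (by omega))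
      obtain ⟨m, rfl⟩ := Nat.exists_eq_add_of_le hn
      rw [show 10 + m - 1 = m + 9 by omega, show m + 9 - 3 = m + 6 by omega] at h6 h7
      rw [show 10 + m - 2 = m + 8 by omega]
      nlinarith
    · -- two corners
      obtain ⟨d1, -, hd1⟩ := exists_deg (dec_rm hl hc1) (n := n) (by have := sum_rm hc1; omega)
      obtain ⟨d2, -, hd2⟩ := exists_deg (dec_rm hl hc2) (n := n) (by have := sum_rm hc2; omega)
      have h4 := branch_two hl hs (Ne.symm hne) hc1 hc2 hd hd1 hd2
      have h5 := ih1 _ d1 (dec_rm hl hc1) (by have := sum_rm hc1; omega) hd1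
        ((headD_rm_le (lt_length_of_getD hc1)).trans (by omega)) ((colLen_rm_le hl hc1 0).trans (by omega))
      have h6 := ih1 _ d2 (dec_rm hl hc2) (by have := sum_rm hc2; omega) hd2
        ((headD_rm_le (lt_length_of_getD hc2)).trans (by omega)) ((colLen_rm_le hl hc2 0).trans (by omega))
      obtain ⟨m, rfl⟩ := Nat.exists_eq_add_of_le hn
      rw [show 10 + m - 3 = m + 7 by omega] at h5 h6
      rw [show 10 + m - 2 = m + 8 by omega]
      nlinarith

/-- removing the zeros -/
theorem isPart_filter {l : List ℕ} {n : ℕ} (hl : Dec l) (hs : l.sum = n) :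
    IsPart (l.filter (fun a => decide (0 < a))) n where
  sorted := hl.filter _
  pos a ha := by
    have := (List.mem_filter.1 ha).2
    simpa using this
  sum := by rw [sum_filter_pos, hs]

theorem length_filter_pos (l : List ℕ) : (l.filter (fun a => decide (0 < a))).length = colLen l 0 := by
  unfold colLen
  rw [List.countP_eq_length_filter]

theorem headD_filter_pos {l : List ℕ} (hl : Dec l) : (l.filter (fun a => decide (0 < a))).headD 0 = l.headD 0 := by
  cases l with
  | nil => rfl
  | cons a l =>
    rw [List.filter_cons]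
    split_ifs with h
    · rfl
    · have ha : a = 0 := by simpa using h
      subst ha
      have h1 : l.filter (fun a => decide (0 < a)) = [] := by
        rw [List.filter_eq_nil_iff]
        intro b hb
        have := List.rel_of_pairwise_cons hl hb
        simp only [decide_eq_true_eq]
        omega
      rw [h1]
      rfl

theorem ld_nine : LD 9 := by
  intro l d hl hs hd hh hc
  have h1 := low9 (isPart_filter hl hs) (by rw [headD_filter_pos hl]; omega) (by rw [length_filter_pos]; omega)
  rw [hookProd_filter hl, ← hd] at h1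
  have := Nat.le_of_mul_le_mul_right h1 (hookProd_pos hl)
  omega

theorem ld_ten : LD 10 := by
  intro l d hl hs hd hh hc
  have h1 := low10 (isPart_filter hl hs) (by rw [headD_filter_pos hl]; omega) (by rw [length_filter_pos]; omega)
  rw [hookProd_filter hl, ← hd] at h1
  have := Nat.le_of_mul_le_mul_right h1 (hookProd_pos hl)
  omega

theorem ld_all {n : ℕ} (hn : 9 ≤ n) : LD n := by
  have h : LD n ∧ LD (n + 1) := by
    induction n, hn using Nat.le_induction with
    | base => exact ⟨ld_nine, ld_ten⟩
    | succ n hn ih => exact ⟨ih.2, ld_step (n := n + 1) (by omega) ih.2 ih.1⟩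
  exact h.1

theorem prod_range_sub' (a : ℕ) : ∏ j ∈ range a, (a - j) = a.factorial := by
  induction a with
  | zero => rfl
  | succ a ih =>
    rw [prod_range_succ', Nat.factorial_succ, ← ih, mul_comm]
    congr 1
    apply prod_congr rfl
    intro j _
    omega

theorem rowHook_nil (a : ℕ) : rowHook a [] = a.factorial := by
  rw [rowHook_eq, ← prod_range_sub']
  rfl

theorem rowHook_one (a : ℕ) : rowHook (a + 1) [1] = (a + 2) * a.factorial := by
  rw [rowHook_eq, prod_range_succ', mul_comm, ← prod_range_sub']
  congr 1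
  apply prod_congr rfl
  intro j _
  have : colLen [1] (j + 1) = 0 := colLen_eq_zero (by simp)
  rw [this]
  omega

theorem low_part {n : ℕ} (hn : 9 ≤ n) {l : List ℕ} {d : ℕ} (hl : IsPart l n) (hd : d * hookProd l = n.factorial)
    (hh : n - 1 ≤ l.headD 0) : d = 1 ∨ d = n - 1 := by
  obtain ⟨hs, hp, hsum⟩ := hl
  cases l with
  | nil => rw [List.headD_nil] at hh; omega
  | cons a t =>
    rw [List.headD_cons] at hh
    rw [List.sum_cons] at hsum
    cases t with
    | nil =>
      rw [List.sum_nil, add_zero] at hsum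
      subst hsum
      left
      rw [hookProd, hookProd, rowHook_nil, mul_one] at hd
      exact Nat.eq_of_mul_eq_mul_right (Nat.factorial_pos a) (by rw [hd, one_mul])
    | cons b t =>
      have hb : 0 < b := hp b (by simp)
      rw [List.sum_cons] at hsum
      have hb1 : b = 1 := by omega
      have ht : t.sum = 0 := by omega
      have ht' : t = [] := by
        rw [List.eq_nil_iff_forall_not_mem]
        intro c hc
        have h1 := hp c (by simp [hc])
        have h2 := List.single_le_sum (by simp) c hc
        omega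
      subst hb1 ht'
      obtain ⟨m, rfl⟩ : ∃ m, a = m + 1 := ⟨a - 1, by omega⟩
      have hn' : n = m + 2 := by rw [List.sum_nil] at hsum; omega
      subst hn'
      right
      rw [hookProd, hookProd, hookProd, rowHook_nil, rowHook_one, Nat.factorial_one, mul_one, mul_one,
        Nat.factorial_succ, Nat.factorial_succ] at hd
      have h1 : 0 < (m + 2) * m.factorial := Nat.mul_pos (by omega) (Nat.factorial_pos m)
      apply Nat.eq_of_mul_eq_mul_right h1
      rw [hd]
      rw [show m + 2 - 1 = m + 1 by omega]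
      ring

theorem low_degree {n d : ℕ} (hn : 9 ≤ n) (h : IsDeg n d) : d = 1 ∨ d = n - 1 ∨ n * (n - 3) ≤ 2 * d := by
  obtain ⟨l, hl, hd⟩ := h
  by_cases h1 : l.headD 0 ≤ n - 2
  · by_cases h2 : colLen l 0 ≤ n - 2
    · exact Or.inr (Or.inr (ld_all hn l d hl.sorted hl.sum hd h1 h2))
    · have h3 : (transpose l).headD 0 = colLen l 0 := by rw [headD_eq_getD, getD_transpose hl.sorted]
      rcases low_part hn (isPart_transpose hl) (by rw [hookProd_transpose hl, hd]) (by rw [h3]; omega) with h | h
      · exact Or.inl h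
      · exact Or.inr (Or.inl h)
  · rcases low_part hn hl hd (by omega) with h | h
    · exact Or.inl h
    · exact Or.inr (Or.inl h)

end Cfsg.Agent.H704
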