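import Cfsg.Prelude.Def_Characters
import Cfsg.Agent.H704.Defs

/-!
# Groups whose degrees are degrees of `S_n`, up to a factor two (helper704)
-/

set_option autoImplicit false

namespace Cfsg.Agent.H704

open Cfsg

/-- the degrees of the irreducible characters of `T` are `d` or `d / 2` for degrees `d` of `S_n` -/
def DegOK (n : ℕ) (T : Type*) [Group T] : Prop :=
  ∀ ψ : T → ℂ, IsIrrCharacter T ψ → ∃ d : ℕ, IsDeg n d ∧ ((d : ℂ) = ψ 1 ∨ (d : ℂ) = 2 * ψ 1)

end Cfsg.Agent.H704
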