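import Cfsg.Agent.H704.Enum

/-!
# Enumeration of the partitions of `n` with a large hook (helper704)
-/

set_option autoImplicit false
set_option linter.unusedSectionVars false

namespace Cfsg.Agent.H704

open Finset

/-- check all the partitions `m ++ l` with `m` of sum `r` and all parts of `m` at least `b`, if `l.sum ≤ l.length + E` -/
def goP (E : ℕ) (chk : ℕ → Bool) : ℕ → ℕ → ℕ → List ℕ → ℕ → Bool
  | 0, _, _, _, _ => false
  | f + 1, r, b, l, H =>
    if r = 0 then chk H else if r < b then true else if l.length + E < l.sum then true else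
      (List.range (r + 1 - b)).all fun i => goP E chk f (r - (b + i)) (b + i) ((b + i) :: l) (rowHook (b + i) l * H)

theorem goP_spec (E : ℕ) (chk : ℕ → Bool) : ∀ (m : List ℕ) (f r b : ℕ) (l : List ℕ) (H : ℕ),
    goP E chk f r b l H = true →
    m.Pairwise (· ≤ ·) → (∀ a ∈ m, b ≤ a) → (∀ a ∈ m, 0 < a) → m.sum = r → H = hookProd l →
    ((m.reverse ++ l).tail.sum ≤ (m.reverse ++ l).tail.length + E) →
    chk (hookProd (m.reverse ++ l)) = true := by
  intro m
  induction m with
  | nil =>
    intro f r b l H h _ _ _ h4 h5 _
    cases f with
    | zero => simp [goP] at h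
    | succ f =>
      rw [List.sum_nil] at h4
      subst h4
      rw [goP, if_pos rfl] at h
      rw [List.reverse_nil, List.nil_append, ← h5]
      exact h
  | cons a m ih =>
    intro f r b l H h h1 h2 h3 h4 h5 h7
    cases f with
    | zero => simp [goP] at h
    | succ f =>
      have ha : 0 < a := h3 a (by simp)
      have hb : b ≤ a := h2 a (by simp)
      rw [List.sum_cons] at h4
      have h8 : ¬ l.length + E < l.sum := by
        rw [not_lt]
        -- `l` is a suffix of the tail
        have h9 : ((a :: m).reverse ++ l).tail = ((a :: m).reverse).tail ++ l := by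
          rw [List.tail_append_of_ne_nil]
          simp
        rw [h9, List.sum_append, List.length_append] at h7
        have h10 : (a :: m).reverse.tail.length ≤ (a :: m).reverse.tail.sum := by
          have h11 : ∀ c ∈ (a :: m).reverse.tail, 1 ≤ c := by
            intro c hc
            exact h3 c (List.mem_reverse.1 (List.mem_of_mem_tail hc))
          have := List.card_nsmul_le_sum _ 1 h11
          simpa using this
        omega
      rw [goP, if_neg (by omega), if_neg (by omega), if_neg h8, List.all_eq_true] at h
      have h6 := h (a - b) (by rw [List.mem_range]; omega)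
      rw [show b + (a - b) = a by omega] at h6
      rw [List.reverse_cons, List.append_assoc, List.singleton_append] at h7 ⊢
      refine ih f (r - a) a (a :: l) _ h6 h1.of_cons ?_ ?_ (by omega) ?_ h7
      · intro c hc; exact List.rel_of_pairwise_cons h1 hc
      · intro c hc; exact h3 c (List.mem_cons_of_mem _ hc)
      · rw [h5, hookProd]

/-- if `r` divides the product of the hook lengths, then the largest hook length is at least `r` -/
theorem hook_le_of_dvd {l : List ℕ} (hl : Dec l) {r : ℕ} (hr : r.Prime) (h : r ∣ hookProd l) :
    r + 1 ≤ l.headD 0 + colLen l 0 := by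
  rw [hookProd_eq hl, Prime.dvd_finsetProd_iff hr.prime] at h
  obtain ⟨x, hx, hd⟩ := h
  rw [mem_cells] at hx
  have h1 := getD_le_headD hl x.1
  have h2 := colLen_anti l (Nat.zero_le x.2)
  have h3 := (lt_colLen_iff hl x.1 x.2).2 hx
  have h4 : 0 < hk l x.1 x.2 := by unfold hk; omega
  have h5 := Nat.le_of_dvd h4 hd
  unfold hk at h5
  omega

theorem check_of_isDegP {chk : ℕ → Bool} {n E r : ℕ} (hr : r.Prime) (hrn : r ≤ n) (hE : n = r + E)
    (h : goP E (fun H => chk (Nat.div n.factorial H)) (n + 1) n 1 [] 1 = true)
    {d : ℕ} (hd : IsDeg n d) (hrd : ¬ r ∣ d) : chk d = true := by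
  obtain ⟨l, hl, he⟩ := hd
  have hrl : r ∣ hookProd l := by
    have h1 : r ∣ d * hookProd l := by rw [he]; exact (hr.dvd_factorial).2 hrn
    exact (hr.dvd_mul.1 h1).resolve_left hrd
  have h0 := hook_le_of_dvd hl.sorted hr hrl
  have h1 : chk (Nat.div n.factorial (hookProd l)) = true := by
    have := goP_spec E _ l.reverse (n + 1) n 1 [] 1 h ?_ ?_ ?_ ?_ rfl ?_
    · simpa using this
    · rw [List.pairwise_reverse]; exact hl.sorted
    · intro a ha; exact hl.pos a (List.mem_reverse.1 ha)
    · intro a ha; exact hl.pos a (List.mem_reverse.1 ha)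
    · rw [List.sum_reverse]; exact hl.sum
    · rw [List.reverse_reverse, List.append_nil]
      have h2 := hl.sum
      have h3 := colLen_le_length l 0
      cases l with
      | nil => simp
      | cons a l =>
        rw [List.sum_cons] at h2
        rw [List.headD_cons] at h0
        rw [List.length_cons] at h3
        rw [List.tail_cons]
        omega
  have h2 : 0 < hookProd l := by
    apply Nat.pos_of_ne_zero
    intro h0
    rw [h0, mul_zero] at he
    exact absurd he.symm (Nat.factorial_pos n).ne'
  have h3 : Nat.div n.factorial (hookProd l) = d := by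
    rw [← he]
    exact Nat.mul_div_cancel d h2
  rw [h3] at h1
  exact h1

end Cfsg.Agent.H704
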