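import Cfsg.Agent.H704.DegOK
import Cfsg.Agent.H704.LowDegree
import Cfsg.Agent.H621.SymDeg.Chars

/-!
# Elimination of simple quotients by degrees (helper704)
-/

set_option autoImplicit false
set_option linter.unusedSectionVars false

universe u

namespace Cfsg.Agent.H704

open Cfsg

theorem DegOK.of_surj {n : ℕ} {H T : Type u} [Group H] [Finite H] [Group T] [Finite T] (h : DegOK n H) (f : H →* T)
    (hf : Function.Surjective f) : DegOK n T := by
  intro ψ hψ
  obtain ⟨d, h1, h2⟩ := h (ψ ∘ f) (Characters.Core.isIrr_comp f hf hψ)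
  rw [Function.comp_apply, map_one] at h2
  exact ⟨d, h1, h2⟩

theorem DegOK.nat {n : ℕ} {T : Type u} [Group T] (h : DegOK n T) {ψ : T → ℂ} (hψ : IsIrrCharacter T ψ) {e : ℕ}
    (he : ψ 1 = e) : ∃ d : ℕ, IsDeg n d ∧ (d = e ∨ d = 2 * e) := by
  obtain ⟨d, h1, h2⟩ := h ψ hψ
  refine ⟨d, h1, ?_⟩
  rw [he] at h2
  rcases h2 with h2 | h2
  · exact Or.inl (by exact_mod_cast h2)
  · exact Or.inr (by exact_mod_cast h2)

/-- alternating quotients -/
theorem alt_elim {n m : ℕ} (hn : 9 ≤ n) {T : Type u} [Group T] [Finite T] (hd : DegOK n T) (hm : 5 ≤ m)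
    (e : T ≃* alternatingGroup (Fin m)) {r : ℕ} (hr : r.Prime) (hrn : n + 1 < 2 * r)
    (hrT : r ∣ Nat.card T) (hdvd : 2 * Nat.card T ∣ n.factorial) : m = n := by
  have : Nontrivial (Fin m) := Fin.nontrivial_iff_two_le.2 (by omega)
  have hcard : 2 * Nat.card T = m.factorial := by
    rw [Nat.card_congr e.toEquiv, two_mul_nat_card_alternatingGroup, Nat.card_perm, Nat.card_fin]
  have hmn : m ≤ n := by
    by_contra hne
    have h1 : n.factorial < m.factorial := (Nat.factorial_lt (by omega)).2 (by omega)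
    have h2 := Nat.le_of_dvd (Nat.factorial_pos n) hdvd
    omega
  have hrm : r ≤ m := by
    have h1 : r ∣ m.factorial := by rw [← hcard]; exact hrT.mul_left 2
    exact (hr.dvd_factorial).1 h1
  obtain ⟨ψ, hψ, hψ1⟩ := H621.SymDeg.alt_irr hm e
  obtain ⟨d, h1, h2⟩ := hd.nat hψ hψ1
  rcases low_degree hn h1 with h3 | h3 | h3
  · omega
  · omega
  · exfalso
    have h4 : 2 * d ≤ 4 * (n - 1) := by omega
    have h5 : n * (n - 3) ≤ 4 * (n - 1) := h3.trans h4
    obtain ⟨k, rfl⟩ := Nat.exists_eq_add_of_le hn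
    rw [show 9 + k - 3 = 6 + k by omega, show 9 + k - 1 = 8 + k by omega] at h5
    nlinarith

/-- the check for `|T| = 6048`, `n = 12` -/
def chk12 (d : ℕ) : Bool := !(Nat.beq (Nat.mod 12096 d) 0) || decide (d = 1) || decide (Nat.mod d 3 = 0)

theorem deg_twelve {d : ℕ} (h : IsDeg 12 d) (hd : d ∣ 12096) : d = 1 ∨ 3 ∣ d := by
  have h1 := check_of_isDeg (chk := chk12) (by decide +kernel) h
  unfold chk12 at h1
  rw [show Nat.mod 12096 d = 0 from Nat.mod_eq_zero_of_dvd hd] at h1
  simp only [Bool.or_eq_true, decide_eq_true_eq, Bool.not_eq_true'] at h1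
  rcases h1 with (h | h) | h
  · exact absurd h (by decide)
  · exact Or.inl h
  · exact Or.inr (Nat.dvd_of_mod_eq_zero h)

/-- quotients of Lie type in characteristic `p` -/
theorem lie_elim {n : ℕ} (hn : 10 ≤ n)
    (hPP : ∀ {d p e : ℕ}, IsDeg n d → p.Prime → 0 < e → (d = p ^ e ∨ d = 2 * p ^ e) → d = n - 1 ∨ (n = 12 ∧ d = 54))
    {p : ℕ} (hp : p.Prime) {T : Type u} [Group T] [Finite T] (hT : commutator T = ⊤) (hd : DegOK n T) {a : ℕ}
    (ha : a = (Nat.card T).factorization p)
    (hSt : ∃ χ : T → ℂ, IsIrrCharacter T χ ∧ χ 1 = ((p ^ a : ℕ) : ℂ))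
    (hcube : Nat.card T < (p ^ a) ^ 3)
    (hsmall : 9 ≤ p ^ a → p ^ a ≤ 18 → Nat.card T * Nat.gcd 2 (p ^ a - 1) = p ^ a * ((p ^ a) ^ 2 - 1))
    (h12 : n = 12 → p ^ a = 27 → Nat.card T = 6048) : False := by
  have hcard : 0 < Nat.card T := Nat.card_pos
  have ha0 : 0 < a := by
    apply Nat.pos_of_ne_zero
    intro h0
    rw [h0, pow_zero, one_pow] at hcube
    omega
  have hpT : p ∣ Nat.card T := by
    rw [ha] at ha0
    exact Nat.dvd_of_factorization_pos ha0.ne'
  obtain ⟨ψ, e, hψ, hψe, he1, hpe, heT, hee⟩ := H621.SymDeg.exists_irr_not_dvd hT hp hpT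
  obtain ⟨χ, hχ, hχ1⟩ := hSt
  obtain ⟨d0, h1, h2⟩ := hd.nat hχ hχ1
  obtain ⟨d1, g1, g2⟩ := hd.nat hψ hψe
  have hpu : p ∣ p ^ a := dvd_pow_self p ha0.ne'
  obtain ⟨q, hq⟩ : ∃ q, q = p ^ a := ⟨_, rfl⟩
  have hpp : IsPrimePow q := by rw [hq]; exact hp.isPrimePow.pow ha0.ne'
  rcases hPP h1 hp ha0 h2 with h3 | ⟨h3, h4⟩
  · -- `d0 = n - 1`
    rw [← hq] at h2 hcube hsmall hpu
    rcases low_degree (by omega) g1 with g3 | g3 | g3
    · omega
    · -- `d1 = n - 1`
      have key : e = q ∨ e = 2 * q ∨ 2 * e = q := by omega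
      rcases key with k | k | k
      · exact hpe (k ▸ hpu)
      · exact hpe (k ▸ hpu.mul_left 2)
      · have h5 : p ∣ 2 * e := by rw [k]; exact hpu
        have h6 : p = 2 := by
          rcases hp.dvd_mul.1 h5 with h | h
          · exact (Nat.prime_dvd_prime_iff_eq hp Nat.prime_two).1 h
          · exact absurd h hpe
        subst h6
        obtain ⟨b, rfl⟩ : ∃ b, a = b + 1 := ⟨a - 1, by omega⟩
        rw [hq, pow_succ'] at k
        have h7 : e = 2 ^ b := by omega
        rcases Nat.eq_zero_or_pos b with hb | hb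
        · rw [hb, pow_zero] at h7; omega
        · exact hpe (h7 ▸ dvd_pow_self 2 hb.ne')
    · have h5 : n * (n - 3) ≤ 4 * e := by omega
      rcases h2 with h2 | h2
      · -- `q = n - 1`
        have hnq : n = q + 1 := by omega
        by_cases hq19 : 19 ≤ q
        · obtain ⟨v, hv⟩ := Nat.exists_eq_add_of_le hq19
          rw [hnq, hv, show 19 + v + 1 - 3 = 17 + v by omega] at h5
          rw [hv] at hcube
          have h6 : ((19 + v + 1) * (17 + v)) * ((19 + v + 1) * (17 + v)) ≤ (4 * e) * (4 * e) := Nat.mul_le_mul h5 h5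
          have h7 : e * e < (19 + v) ^ 3 := hee.trans hcube
          nlinarith [sq_nonneg v, pow_nonneg (Nat.zero_le v) 3, pow_nonneg (Nat.zero_le v) 4]
        · have hs := hsmall (by omega) (by omega)
          have hq9 : 9 ≤ q := by omega
          have hq18 : q ≤ 18 := by omega
          rw [hnq] at h5
          clear hcube h1 hχ1 hnq h3 hsmall hPP
          interval_cases q
          · -- 9
            have hp3 : p = 3 := by
              have h6 : p ∣ 3 := hp.dvd_of_dvd_pow (show p ∣ 3 ^ 2 from hpu)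
              exact (Nat.prime_dvd_prime_iff_eq hp Nat.prime_three).1 h6
            subst hp3
            have h7 : Nat.card T = 360 := by norm_num at hs; omega
            rw [h7] at hee
            have h8 : e < 19 := by nlinarith
            have h9 : e = 18 := by omega
            exact hpe (by rw [h9]; norm_num)
          · exact absurd hpp (by rw [isPrimePow_nat_iff_bounded]; decide)
          · have h7 : Nat.card T = 660 := by norm_num at hs; omega
            rw [h7] at hee
            nlinarith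
          · exact absurd hpp (by rw [isPrimePow_nat_iff_bounded]; decide)
          · have h7 : Nat.card T = 1092 := by norm_num at hs; omega
            rw [h7] at hee
            nlinarith
          · exact absurd hpp (by rw [isPrimePow_nat_iff_bounded]; decide)
          · exact absurd hpp (by rw [isPrimePow_nat_iff_bounded]; decide)
          · -- 16
            have hp2 : p = 2 := by
              have h6 : p ∣ 2 := hp.dvd_of_dvd_pow (show p ∣ 2 ^ 4 from hpu)
              exact (Nat.prime_dvd_prime_iff_eq hp Nat.prime_two).1 h6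
            subst hp2
            have h7 : Nat.card T = 4080 := by norm_num at hs; omega
            rw [h7] at hee heT
            have h8 : e < 64 := by nlinarith
            have h9 : 60 ≤ e := by omega
            interval_cases e <;> revert heT hpe <;> decide
          · have h7 : Nat.card T = 2448 := by norm_num at hs; omega
            rw [h7] at hee
            nlinarith
          · exact absurd hpp (by rw [isPrimePow_nat_iff_bounded]; decide)
      · -- `2 q = n - 1`
        have hnq : n = 2 * q + 1 := by omega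
        have hq5 : 5 ≤ q := by omega
        obtain ⟨v, hv⟩ := Nat.exists_eq_add_of_le hq5
        rw [hnq, hv, show 2 * (5 + v) + 1 - 3 = 8 + 2 * v by omega] at h5
        rw [hv] at hcube
        have h6 : ((2 * (5 + v) + 1) * (8 + 2 * v)) * ((2 * (5 + v) + 1) * (8 + 2 * v)) ≤ (4 * e) * (4 * e) :=
          Nat.mul_le_mul h5 h5
        have h7 : e * e < (5 + v) ^ 3 := hee.trans hcube
        nlinarith [sq_nonneg v, pow_nonneg (Nat.zero_le v) 3, pow_nonneg (Nat.zero_le v) 4]
  · -- `n = 12`, `d0 = 54`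
    subst h3
    rw [← hq] at h2 hpu h12
    have hq27 : q = 27 := by
      rcases h2 with h2 | h2
      · exfalso
        have h5 : p ^ a = 54 := by rw [← hq, ← h2, h4]
        have h6 : 2 ∣ p := Nat.prime_two.dvd_of_dvd_pow (show 2 ∣ p ^ a by rw [h5]; norm_num)
        have h7 : 3 ∣ p := Nat.prime_three.dvd_of_dvd_pow (show 3 ∣ p ^ a by rw [h5]; norm_num)
        have h8 := (Nat.prime_dvd_prime_iff_eq Nat.prime_two hp).1 h6
        have h9 := (Nat.prime_dvd_prime_iff_eq Nat.prime_three hp).1 h7
        omega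
      · omega
    have hp3 : p = 3 := by
      have h6 : p ∣ 3 := hp.dvd_of_dvd_pow (show p ∣ 3 ^ 3 by rw [hq27] at hpu; exact hpu)
      exact (Nat.prime_dvd_prime_iff_eq hp Nat.prime_three).1 h6
    subst hp3
    have h7 := h12 rfl hq27
    rw [h7] at heT
    have h8 : d1 ∣ 12096 := by
      rcases g2 with rfl | rfl
      · exact heT.trans (by norm_num)
      · exact (Nat.mul_dvd_mul_left 2 heT).trans (by norm_num)
    rcases deg_twelve g1 h8 with h9 | h9
    · omega
    · rcases g2 with rfl | rfl
      · exact hpe h9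
      · rcases (Nat.prime_three.dvd_mul).1 h9 with h | h
        · omega
        · exact hpe h

end Cfsg.Agent.H704
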