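import Cfsg.Agent.H704.EnumP

/-!
# Large hooks (helper704)

* `star` : two rows and two columns;
* `exists_two_hooks` : two primes in `(n/2, n]` not dividing the degree are hook lengths, after a transposition both of
  them of the first row;
* `deg_mul_desc` : the degree in terms of the first row.
-/

set_option autoImplicit false
set_option linter.unusedSectionVars false

namespace Cfsg.Agent.H704

open Finset

theorem headD_getD (l : List ℕ) : l.headD 0 = l.getD 0 0 := by cases l <;> rfl

theorem star {l : List ℕ} {i j : ℕ} (hi : 1 ≤ i) (hil : i < l.length) (hj : 1 ≤ j) :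
    l.getD 0 0 + l.getD i 0 + colLen l 0 + colLen l j ≤ l.sum + 4 := by
  rw [sum_eq_sum_range, colLen_eq_sum l 0, colLen_eq_sum l j]
  have h1 : ∀ x, (if 0 < l.getD x 0 then 1 else 0) + (if j < l.getD x 0 then 1 else 0) ≤ l.getD x 0 := by
    intro x
    split_ifs <;> omega
  have h2 : ∑ x ∈ range l.length, l.getD x 0 =
      (∑ x ∈ range l.length, (if 0 < l.getD x 0 then 1 else 0)) + (∑ x ∈ range l.length, (if j < l.getD x 0 then 1 else 0)) +
      ∑ x ∈ range l.length, (l.getD x 0 - ((if 0 < l.getD x 0 then 1 else 0) + (if j < l.getD x 0 then 1 else 0))) := by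
    rw [← sum_add_distrib, ← sum_add_distrib]
    apply sum_congr rfl
    intro x _
    have := h1 x
    omega
  have h3 : ∑ x ∈ ({0, i} : Finset ℕ), (l.getD x 0 - ((if 0 < l.getD x 0 then 1 else 0) + (if j < l.getD x 0 then 1 else 0)))
      ≤ ∑ x ∈ range l.length, (l.getD x 0 - ((if 0 < l.getD x 0 then 1 else 0) + (if j < l.getD x 0 then 1 else 0))) := by
    apply sum_le_sum_of_subset
    intro x hx
    rw [mem_insert, mem_singleton] at hx
    rw [mem_range]
    omega
  rw [sum_pair (by omega)] at h3
  have h4 : ∀ x, l.getD x 0 ≤ 2 + (l.getD x 0 - ((if 0 < l.getD x 0 then 1 else 0) + (if j < l.getD x 0 then 1 else 0))) := by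
    intro x
    split_ifs <;> omega
  have h5 := h4 0
  have h6 := h4 i
  omega

theorem headD_add_colLen_le {l : List ℕ} (hp : ∀ a ∈ l, 0 < a) (j : ℕ) : l.headD 0 + colLen l j ≤ l.sum + 1 := by
  cases l with
  | nil => simp [colLen]
  | cons a t =>
    rw [List.headD_cons, List.sum_cons, colLen_cons]
    have h1 := colLen_le_length t j
    have h2 : t.length ≤ t.sum := by
      have h11 : ∀ c ∈ t, 1 ≤ c := fun c hc => hp c (List.mem_cons_of_mem _ hc)
      have := List.card_nsmul_le_sum _ 1 h11
      simpa using this
    split_ifs <;> omega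

/-- a prime in `(n/2, n]` that does not divide the degree is a hook length -/
theorem exists_cell {l : List ℕ} {n d r : ℕ} (hl : IsPart l n) (hd : d * hookProd l = n.factorial) (hr : r.Prime)
    (h1 : n < 2 * r) (h2 : r ≤ n) (h3 : ¬ r ∣ d) : ∃ i j : ℕ, j < l.getD i 0 ∧ l.getD i 0 + colLen l j = r + i + j + 1 := by
  have h : r ∣ hookProd l := by
    have h1 : r ∣ d * hookProd l := by rw [hd]; exact (hr.dvd_factorial).2 h2
    exact (hr.dvd_mul.1 h1).resolve_left h3
  rw [hookProd_eq hl.sorted, Prime.dvd_finsetProd_iff hr.prime] at h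
  obtain ⟨x, hx, hdv⟩ := h
  rw [mem_cells] at hx
  refine ⟨x.1, x.2, hx, ?_⟩
  have h4 := (lt_colLen_iff hl.sorted x.1 x.2).2 hx
  have h5 := getD_le_headD hl.sorted x.1
  have h6 := headD_add_colLen_le hl.pos x.2
  have h7 := hl.sum
  obtain ⟨c, hc⟩ := hdv
  have h8 : hk l x.1 x.2 = l.getD x.1 0 + colLen l x.2 - x.1 - x.2 - 1 := rfl
  have h9 : c = 1 := by
    have hc0 : c ≠ 0 := by
      rintro rfl
      rw [mul_zero] at hc
      omega
    by_contra hne
    have h10 : 2 ≤ c := by omega
    have h11 : r * 2 ≤ r * c := Nat.mul_le_mul_left r h10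
    omega
  rw [h9, mul_one] at hc
  omega

theorem getD_anti' {l : List ℕ} (hl : Dec l) {i j : ℕ} (h : i ≤ j) : l.getD j 0 ≤ l.getD i 0 := by
  by_contra hne
  rw [not_le] at hne
  have h1 := (lt_colLen_iff hl j (l.getD i 0)).2 hne
  have h2 := (lt_colLen_iff hl i (l.getD i 0)).1 (by omega)
  omega

/-- two primes in `(n/2, n]` that do not divide the degree -/
theorem exists_two_hooks {l : List ℕ} {n d r s : ℕ} (hl : IsPart l n) (hd : d * hookProd l = n.factorial) (hr : r.Prime)
    (hs : s.Prime) (hrs : r < s) (h1 : n < 2 * r) (h2 : s ≤ n) (h3 : ¬ r ∣ d) (h4 : ¬ s ∣ d) :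
    ∃ l' : List ℕ, IsPart l' n ∧ d * hookProd l' = n.factorial ∧ r + 2 ≤ l'.headD 0 + colLen l' 1 ∧
      s + 1 ≤ l'.headD 0 + colLen l' 0 ∧ 1 < l'.headD 0 := by
  obtain ⟨i, j, hc, he⟩ := exists_cell hl hd hr h1 (by omega) h3
  obtain ⟨i', j', hc', he'⟩ := exists_cell hl hd hs (by omega) h2 h4
  have hS := hl.sorted
  have hsum := hl.sum
  have a0 := headD_getD l
  have a1 := getD_le_headD hS i
  have a2 := getD_le_headD hS i'
  have a3 := colLen_anti l (Nat.zero_le j)
  have a4 := colLen_anti l (Nat.zero_le j')
  have a5 := (lt_colLen_iff hS i j).2 hc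
  have a6 := (lt_colLen_iff hS i' j').2 hc'
  have a7 := colLen_le_length l 0
  -- a cell off the first row and column has a small hook
  have hij : i = 0 ∨ j = 0 := by
    by_contra hne
    have := star (l := l) (i := i) (j := j) (by omega) (by omega) (by omega)
    omega
  have hij' : i' = 0 ∨ j' = 0 := by
    by_contra hne
    have := star (l := l) (i := i') (j := j') (by omega) (by omega) (by omega)
    omega
  by_cases hi : i = 0
  · subst hi
    by_cases hj : j = 0
    · exfalso
      subst hj
      rw [← a0] at he
      omega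
    · -- the cell of `r` is in the first row
      by_cases hi' : i' = 0
      · subst hi'
        have b1 := colLen_anti l (show 1 ≤ j by omega)
        refine ⟨l, hl, hd, ?_, ?_, ?_⟩ <;> rw [a0] <;> omega
      · exfalso
        have hj' : j' = 0 := by omega
        subst hj'
        have := star (l := l) (i := i') (j := j) (by omega) (by omega) (by omega)
        omega
  · have hj : j = 0 := by omega
    subst hj
    by_cases hj' : j' = 0
    · subst hj'
      have b1 := getD_anti' hS (show 1 ≤ i by omega)
      refine ⟨transpose l, isPart_transpose hl, by rw [hookProd_transpose hl, hd], ?_, ?_, ?_⟩ <;>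
        rw [headD_getD, getD_transpose hS]
      · rw [colLen_transpose' hS]; omega
      · rw [colLen_transpose' hS, ← a0]; omega
      · omega
    · exfalso
      have hi' : i' = 0 := by omega
      subst hi'
      have := star (l := l) (i := i) (j := j') (by omega) (by omega) (by omega)
      omega

/-- consequence for the first two rows -/
theorem rows_of_hooks {l : List ℕ} {n r s : ℕ} (hl : IsPart l n) (h1 : r + 2 ≤ l.headD 0 + colLen l 1)
    (h2 : s + 1 ≤ l.headD 0 + colLen l 0) (h3 : 0 < l.getD 1 0) : n + l.getD 1 0 + r + s ≤ l.headD 0 + (2 * n + 1) := by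
  have h4 := (lt_colLen_iff hl.sorted 1 0).2 h3
  have h5 := colLen_le_length l 0
  have h6 := star (l := l) (i := 1) (j := 1) le_rfl (by omega) le_rfl
  rw [← headD_getD, hl.sum] at h6
  omega

theorem prod_range_sub'' (a : ℕ) : ∏ j ∈ range a, (a - j) = a.factorial := by
  induction a with
  | zero => rfl
  | succ a ih =>
    rw [prod_range_succ', Nat.factorial_succ, ← ih, mul_comm]
    congr 1
    apply prod_congr rfl
    intro j _
    omega

/-- the degree in terms of the first row -/
theorem deg_mul_desc {a : ℕ} {t : List ℕ} {n d f : ℕ} (hl : IsPart (a :: t) n) (hd : d * hookProd (a :: t) = n.factorial)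
    (hf : f * hookProd t = t.sum.factorial) :
    d * (∏ j ∈ range (t.headD 0), (a - j + colLen t j)) * t.sum.factorial = f * n.descFactorial (t.sum + t.headD 0) := by
  have hS := hl.sorted
  have hk : t.headD 0 ≤ a := by
    cases t with
    | nil => simp
    | cons b t => exact List.rel_of_pairwise_cons hS (by simp)
  have hsum : a + t.sum = n := by have := hl.sum; rwa [List.sum_cons] at this
  have h1 : rowHook a t = (∏ j ∈ range (t.headD 0), (a - j + colLen t j)) * (a - t.headD 0).factorial := by
    rw [rowHook_eq]
    conv_lhs => rw [show a = t.headD 0 + (a - t.headD 0) by omega]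
    rw [prod_range_add]
    congr 1
    · apply prod_congr rfl
      intro j hj
      congr 1
      congr 1
      omega
    · rw [← prod_range_sub'']
      apply prod_congr rfl
      intro j hj
      rw [mem_range] at hj
      have h2 : colLen t (t.headD 0 + j) = 0 := by
        by_contra hne
        have h3 := (lt_colLen_iff hS.of_cons 0 (t.headD 0 + j)).1 (by omega)
        rw [← headD_getD] at h3
        omega
      rw [h2]
      omega
  have h2 := Nat.factorial_mul_descFactorial (show t.sum + t.headD 0 ≤ n by omega)
  rw [show n - (t.sum + t.headD 0) = a - t.headD 0 by omega] at h2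
  rw [hookProd, h1, ← h2] at hd
  apply Nat.eq_of_mul_eq_mul_right (Nat.factorial_pos (a - t.headD 0))
  rw [← hf]
  calc d * (∏ j ∈ range (t.headD 0), (a - j + colLen t j)) * (f * hookProd t) * (a - t.headD 0).factorial
      = f * (d * ((∏ j ∈ range (t.headD 0), (a - j + colLen t j)) * (a - t.headD 0).factorial * hookProd t)) := by ring
    _ = f * ((a - t.headD 0).factorial * n.descFactorial (t.sum + t.headD 0)) := by rw [hd]
    _ = _ := by ring

/-- the lower bound -/
theorem lower_bound {a : ℕ} {t : List ℕ} {n d f m k : ℕ} (hl : IsPart (a :: t) n)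
    (hd : d * hookProd (a :: t) = n.factorial) (hm : m = t.sum) (hk : k = t.headD 0) (hk1 : 1 ≤ k)
    (hf : f * hookProd t = t.sum.factorial) :
    f * (n.descFactorial (k - 1) * (n - (2 * k - 1)).descFactorial (m - k + 1)) ≤ d * m.factorial := by
  have h := deg_mul_desc hl hd hf
  rw [← hm, ← hk] at h
  have hS := hl.sorted
  have hka : k ≤ a := by
    rw [hk]
    cases t with
    | nil => simp
    | cons b t => exact List.rel_of_pairwise_cons hS (by simp)
  have hsum : a + m = n := by have := hl.sum; rw [List.sum_cons] at this; omega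
  have hpt : ∀ c ∈ t, 0 < c := fun c hc => hl.pos c (List.mem_cons_of_mem _ hc)
  have hkm : k ≤ m := by
    rw [hk, hm]
    cases t with
    | nil => simp
    | cons b t => rw [List.headD_cons, List.sum_cons]; omega
  have h1 : (∏ j ∈ range k, (a - j + colLen t j)) ≤ (n - (k - 1)).descFactorial k := by
    rw [Nat.descFactorial_eq_prod_range]
    apply prod_le_prod'
    intro j hj
    rw [mem_range] at hj
    have h2 := headD_add_colLen_le hpt j
    omega
  have h2 : n.descFactorial (m + k) = n.descFactorial (k - 1) * (n - (k - 1)).descFactorial k *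
      (n - (2 * k - 1)).descFactorial (m - k + 1) := by
    rw [← Nat.descFactorial_mul_descFactorial (show 2 * k - 1 ≤ m + k by omega),
      ← Nat.descFactorial_mul_descFactorial (show k - 1 ≤ 2 * k - 1 by omega)]
    rw [show m + k - (2 * k - 1) = m - k + 1 by omega, show 2 * k - 1 - (k - 1) = k by omega]
    ring
  have h3 : 0 < (n - (k - 1)).descFactorial k := Nat.descFactorial_pos.2 (by omega)
  apply Nat.le_of_mul_le_mul_right _ h3
  calc f * (n.descFactorial (k - 1) * (n - (2 * k - 1)).descFactorial (m - k + 1)) * (n - (k - 1)).descFactorial k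
      = f * n.descFactorial (m + k) := by rw [h2]; ring
    _ = d * (∏ j ∈ range k, (a - j + colLen t j)) * m.factorial := h.symm
    _ ≤ d * (n - (k - 1)).descFactorial k * m.factorial := by gcongr
    _ = _ := by ring

theorem ordProj_factorial_le {p k : ℕ} (hp : p.Prime) (hk : 1 ≤ k) : p ^ (k.factorial.factorization p) ≤ 2 ^ (k - 1) := by
  have : Fact p.Prime := ⟨hp⟩
  have h1 := sub_one_mul_padicValNat_factorial_lt_of_ne_zero (p := p) (show k ≠ 0 by omega)
  rw [← Nat.factorization_def _ hp] at h1
  have h2 : p ≤ 2 ^ (p - 1) := by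
    have := Nat.lt_two_pow_self (n := p - 1)
    have := hp.two_le
    omega
  calc p ^ (k.factorial.factorization p) ≤ (2 ^ (p - 1)) ^ (k.factorial.factorization p) := Nat.pow_le_pow_left h2 _
    _ = 2 ^ ((p - 1) * k.factorial.factorization p) := by rw [pow_mul]
    _ ≤ 2 ^ (k - 1) := Nat.pow_le_pow_right (by norm_num) (by omega)

/-- the upper bound -/
theorem upper_bound {a : ℕ} {t : List ℕ} {n d f m k p e : ℕ} (hl : IsPart (a :: t) n)
    (hd : d * hookProd (a :: t) = n.factorial) (hm : m = t.sum) (hk : k = t.headD 0) (hk1 : 1 ≤ k)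
    (hf : f * hookProd t = t.sum.factorial) (hp : p.Prime) (he : d = p ^ e ∨ d = 2 * p ^ e) :
    d ≤ f * n * (m + k) * 2 ^ k := by
  have h := deg_mul_desc hl hd hf
  rw [← hm, ← hk] at h
  have hS := hl.sorted
  have hka : k ≤ a := by
    rw [hk]
    cases t with
    | nil => simp
    | cons b t => exact List.rel_of_pairwise_cons hS (by simp)
  have hsum : a + m = n := by have := hl.sum; rw [List.sum_cons] at this; omega
  have hkm : k ≤ m := by
    rw [hk, hm]
    cases t with
    | nil => simp
    | cons b t => rw [List.headD_cons, List.sum_cons]; omega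
  have hn : 0 < n := by omega
  -- `d * P = f * choose n N * choose N k * k!`
  have h1 : d * (∏ j ∈ range k, (a - j + colLen t j)) = f * (n.choose (m + k) * ((m + k).choose k * k.factorial)) := by
    apply Nat.eq_of_mul_eq_mul_right (Nat.factorial_pos m)
    rw [h, Nat.descFactorial_eq_factorial_mul_choose]
    have h2 := Nat.choose_mul_factorial_mul_factorial (show k ≤ m + k by omega)
    rw [show m + k - k = m by omega] at h2
    rw [← h2]
    ring
  have hf0 : f ≠ 0 := by
    rintro rfl
    rw [zero_mul] at hf
    exact absurd hf.symm (Nat.factorial_pos _).ne'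
  have hc1 : n.choose (m + k) ≠ 0 := (Nat.choose_pos (by omega)).ne'
  have hc2 : (m + k).choose k ≠ 0 := (Nat.choose_pos (by omega)).ne'
  have hc3 : k.factorial ≠ 0 := (Nat.factorial_pos k).ne'
  have h2 : p ^ (d.factorization p) ∣ f * (n.choose (m + k) * ((m + k).choose k * k.factorial)) := by
    rw [← h1]
    exact (Nat.ordProj_dvd d p).trans (Dvd.intro _ rfl)
  have h3 := (hp.pow_dvd_iff_le_factorization (by positivity)).1 h2
  rw [Nat.factorization_mul hf0 (by positivity), Nat.factorization_mul hc1 (by positivity),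
    Nat.factorization_mul hc2 hc3] at h3
  simp only [Finsupp.add_apply] at h3
  have h4 : p ^ (d.factorization p) ≤ f * (n * ((m + k) * 2 ^ (k - 1))) := by
    calc p ^ (d.factorization p) ≤ p ^ (f.factorization p + ((n.choose (m + k)).factorization p +
          (((m + k).choose k).factorization p + k.factorial.factorization p))) := Nat.pow_le_pow_right hp.pos h3
      _ = p ^ f.factorization p * (p ^ (n.choose (m + k)).factorization p *
          (p ^ ((m + k).choose k).factorization p * p ^ k.factorial.factorization p)) := by rw [pow_add, pow_add, pow_add]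
      _ ≤ f * (n * ((m + k) * 2 ^ (k - 1))) :=
        Nat.mul_le_mul (Nat.ordProj_le p hf0) (Nat.mul_le_mul (Nat.pow_factorization_choose_le hn)
          (Nat.mul_le_mul (Nat.pow_factorization_choose_le (by omega)) (ordProj_factorial_le hp hk1)))
  have h5 : d ≤ 2 * p ^ (d.factorization p) := by
    rcases he with rfl | rfl
    · rw [hp.factorization_pow, Finsupp.single_eq_same]
      have := Nat.pos_of_ne_zero (pow_ne_zero e hp.ne_zero)
      omega
    · rw [Nat.factorization_mul (by norm_num) (pow_ne_zero e hp.ne_zero), Finsupp.add_apply, hp.factorization_pow,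
        Finsupp.single_eq_same, pow_add]
      have h6 : 1 ≤ p ^ (Nat.factorization 2 p) := Nat.one_le_pow _ _ hp.pos
      nlinarith [Nat.pos_of_ne_zero (pow_ne_zero e hp.ne_zero)]
  have h6 : 2 ^ k = 2 * 2 ^ (k - 1) := by
    rw [← pow_succ']
    congr 1
    omega
  rw [h6]
  calc d ≤ 2 * p ^ (d.factorization p) := h5
    _ ≤ 2 * (f * (n * ((m + k) * 2 ^ (k - 1)))) := by gcongr
    _ = _ := by ring

end Cfsg.Agent.H704
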