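import Cfsg.Agent.H704.PPCore
import Cfsg.Agent.H171.DegIneqThree
import Cfsg.Agent.H171.PrimePair
import Cfsg.Agent.H479.PrimesMid

/-!
# Degrees of the symmetric groups that are prime powers, or twice prime powers (helper704)
-/

set_option autoImplicit false
set_option linter.unusedSectionVars false

namespace Cfsg.Agent.H704

/-- the inequality -/
def Iq (n m k : ℕ) : Prop :=
  m.factorial * n * (m + k) * 2 ^ k < n.descFactorial (k - 1) * (n - (2 * k - 1)).descFactorial (m - k + 1)

instance decIq (n m k : ℕ) : Decidable (Iq n m k) := inferInstanceAs (Decidable (_ < _))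

/-- the check of the inequality for `m + k ≤ D` -/
def iqChk (n D : ℕ) : Bool := (List.range 16).all fun m => (List.range 16).all fun k =>
  !(decide (3 ≤ m)) || !(decide (1 ≤ k)) || !(decide (k ≤ m)) || !(decide (m + k ≤ D)) || decide (Iq n m k)

theorem iq_of_chk {n D : ℕ} (hD : D ≤ 15) (h : iqChk n D = true) {m k : ℕ} (hm : 3 ≤ m) (hk : 1 ≤ k) (hkm : k ≤ m)
    (hmk : m + k ≤ D) : Iq n m k := by
  unfold iqChk at h
  rw [List.all_eq_true] at h
  have h1 := h m (by rw [List.mem_range]; omega)
  rw [List.all_eq_true] at h1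
  have h2 := h1 k (by rw [List.mem_range]; omega)
  simpa [hm, hk, hkm, hmk] using h2

/-- **Prime power degrees, and twice prime power degrees, of the symmetric groups.** -/
theorem pp_theorem {n : ℕ} (hn : 10 ≤ n)
    {d p e : ℕ} (h : IsDeg n d) (hp : p.Prime) (he : 0 < e) (hd : d = p ^ e ∨ d = 2 * p ^ e) :
    d = n - 1 ∨ (n = 12 ∧ d = 54) := by
  by_cases h18 : n ≤ 18
  · exact pp_small hn h18 h hp he hd
  · left
    by_cases h19 : n = 19
    · subst h19
      refine pp_core (r := 17) (s := 19) le_rfl (by norm_num) (by norm_num) (by norm_num) (by norm_num) (by norm_num)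
        ?_ h hp he hd
      intro m k h1 h2 h3 h4
      omega
    by_cases h20 : n = 20
    · subst h20
      refine pp_core (r := 17) (s := 19) (by norm_num) (by norm_num) (by norm_num) (by norm_num) (by norm_num)
        (by norm_num) ?_ h hp he hd
      intro m k h1 h2 h3 h4
      exact iq_of_chk (D := 5) (by norm_num) (by decide +kernel) h1 h2 h3 (by omega)
    by_cases h28 : n = 28
    · subst h28
      refine pp_core (r := 19) (s := 23) (by norm_num) (by norm_num) (by norm_num) (by norm_num) (by norm_num)
        (by norm_num) ?_ h hp he hd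
      intro m k h1 h2 h3 h4
      exact iq_of_chk (D := 15) (by norm_num) (by decide +kernel) h1 h2 h3 (by omega)
    by_cases h5 : 5000 ≤ n
    · obtain ⟨r, s, hr, hs, hrs, hsn, hnr, hh⟩ := H171.PrimePair.exists_primes_large h5
      refine pp_core (by omega) hr hs hrs hsn hnr ?_ h hp he hd
      intro m k h1 h2 h3 h4
      exact H171.DegIneq.ineq_large20 (by omega) h1 h2 h3 (by omega)
    · obtain ⟨r, s, hr, hs, hrs, hsn, hnr, hh⟩ := H479.PrimesMid.exists_primes_mid (n := n) (by omega) h28 (by omega)
      refine pp_core (by omega) hr hs hrs hsn hnr ?_ h hp he hd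
      intro m k h1 h2 h3 h4
      exact H171.DegIneq.ineq_half (by omega) h1 h2 h3 (by omega)

end Cfsg.Agent.H704
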