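import Cfsg.Agent.H704.Bridge

/-!
# Branching for the degrees of the symmetric groups, on lists (helper704)

* `rm l i` : remove one box of row `i`;
* `branch_one`, `branch_two` : `d (rm l i) ≤ d l`, `d (rm l i) + d (rm l k) ≤ d l` for corners `i ≠ k`.
-/

set_option autoImplicit false
set_option linter.unusedSectionVars false

namespace Cfsg.Agent.H704

open Finset Cfsg.Agent.H614

theorem exists_tuple_aux : ∀ (l : List ℕ), Dec l → ∃ β : Fin l.length → ℕ, StrictMono β ∧ lam l.length β = l ∧
    ∀ t, (∀ b ∈ l, b ≤ t) → ∀ i, β i < t + l.length := by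
  intro l
  induction l with
  | nil => intro _; exact ⟨fun i => i.elim0, fun i => i.elim0, rfl, fun _ _ i => i.elim0⟩
  | cons a l ih =>
    intro hd
    obtain ⟨β, h1, h2, h3⟩ := ih hd.of_cons
    have h4 : ∀ i, β i < a + l.length := h3 a fun b hb => List.rel_of_pairwise_cons hd hb
    refine ⟨(Fin.snoc β (a + l.length) : Fin (l.length + 1) → ℕ), ?_, ?_, ?_⟩
    · intro i j hij
      rcases Fin.eq_castSucc_or_eq_last j with ⟨k, rfl⟩ | rfl
      · rcases Fin.eq_castSucc_or_eq_last i with ⟨i', rfl⟩ | rfl
        · simp only [Fin.snoc_castSucc]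
          exact h1 (by simpa using hij)
        · exact absurd hij (Fin.castSucc_lt_last k).not_gt
      · rcases Fin.eq_castSucc_or_eq_last i with ⟨i', rfl⟩ | rfl
        · simp only [Fin.snoc_castSucc, Fin.snoc_last]
          exact h4 i'
        · exact absurd hij (lt_irrefl _)
    · show ((Fin.snoc β (a + l.length) : Fin (l.length + 1) → ℕ) (Fin.last l.length) - l.length) ::
        lam l.length (fun i => (Fin.snoc β (a + l.length) : Fin (l.length + 1) → ℕ) i.castSucc) = a :: l
      simp only [Fin.snoc_castSucc, Fin.snoc_last]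
      rw [h2, Nat.add_sub_cancel]
    · intro t ht i
      rcases Fin.eq_castSucc_or_eq_last i with ⟨i', rfl⟩ | rfl
      · simp only [Fin.snoc_castSucc]
        have := h3 t (fun b hb => ht b (List.mem_cons_of_mem _ hb)) i'
        rw [List.length_cons]; omega
      · simp only [Fin.snoc_last]
        have := ht a (by simp)
        rw [List.length_cons]; omega

theorem exists_tuple {l : List ℕ} (hd : Dec l) : ∃ β : Fin l.length → ℕ, StrictMono β ∧ lam l.length β = l := by
  obtain ⟨β, h1, h2, -⟩ := exists_tuple_aux l hd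
  exact ⟨β, h1, h2⟩

theorem sum_tuple {l : List ℕ} {m n : ℕ} {β : Fin m → ℕ} (hβ : StrictMono β) (h : lam m β = l) (hs : l.sum = n) :
    ∑ i, β i = n + ∑ i : Fin m, (i : ℕ) := by
  rw [← sum_lam m β hβ, h, hs]

/-- the degree of a partition -/
theorem exists_deg {l : List ℕ} {n : ℕ} (hd : Dec l) (hs : l.sum = n) :
    ∃ d : ℕ, 0 < d ∧ d * hookProd l = n.factorial := by
  obtain ⟨β, h1, h2⟩ := exists_tuple hd
  have h3 := sum_tuple h1 h2 hs
  have h0 := FM_ones_pos n h1 h3
  have h4 := FM_mul_hookProd h1 h3
  rw [h2] at h4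
  refine ⟨(FM (Multiset.replicate n 1) β).toNat, by omega, ?_⟩
  rw [← Int.toNat_of_nonneg h0.le] at h4
  exact_mod_cast h4

theorem deg_unique {l : List ℕ} {n d : ℕ} {m : ℕ} {β : Fin m → ℕ} (hβ : StrictMono β) (h : lam m β = l)
    (hs : l.sum = n) (hd : d * hookProd l = n.factorial) : (d : ℤ) = FM (Multiset.replicate n 1) β := by
  have h4 := FM_mul_hookProd hβ (sum_tuple hβ h hs)
  rw [h] at h4
  have h5 : (hookProd l : ℤ) ≠ 0 := by
    have := hookProd_pos (h ▸ dec_lam m β hβ : Dec l)
    exact_mod_cast this.ne'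
  apply mul_right_cancel₀ h5
  rw [h4]
  exact_mod_cast hd

theorem lam_eq_ofFn : ∀ (m : ℕ) (β : Fin m → ℕ), lam m β = List.ofFn fun i : Fin m => β i.rev - (i.rev : ℕ) := by
  intro m
  induction m with
  | zero => intro _; rfl
  | succ m ih =>
    intro β
    rw [lam, ih, List.ofFn_succ]
    congr 1
    congr 1
    funext i
    rw [Fin.rev_succ, Fin.val_castSucc]

theorem getD_lam {m : ℕ} (β : Fin m → ℕ) {i : ℕ} (hi : i < m) :
    (lam m β).getD i 0 = β (Fin.rev ⟨i, hi⟩) - (m - 1 - i) := by
  rw [lam_eq_ofFn]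
  simp only [List.getD_eq_getElem?_getD]
  rw [List.getElem?_ofFn, dif_pos hi, Option.getD_some, Fin.val_rev]
  congr 1
  simp only
  omega

/-- remove a box from row `i` -/
def rm (l : List ℕ) (i : ℕ) : List ℕ := l.set i (l.getD i 0 - 1)

theorem length_rm (l : List ℕ) (i : ℕ) : (rm l i).length = l.length := List.length_set ..

theorem getD_rm {l : List ℕ} {i : ℕ} (hi : i < l.length) (k : ℕ) :
    (rm l i).getD k 0 = if k = i then l.getD i 0 - 1 else l.getD k 0 := by
  unfold rm
  simp only [List.getD_eq_getElem?_getD, List.getElem?_set]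
  by_cases h : k = i
  · subst h; simp [hi]
  · rw [if_neg (Ne.symm h), if_neg h]

theorem lt_length_of_getD {l : List ℕ} {i c : ℕ} (h : c < l.getD i 0) : i < l.length := by
  by_contra hne
  rw [List.getD_eq_default _ _ (by omega)] at h
  omega

/-- removing a corner -/
theorem exists_dn {l : List ℕ} {β : Fin l.length → ℕ} (hβ : StrictMono β) (h : lam l.length β = l) {i : ℕ}
    (hi : l.getD (i + 1) 0 < l.getD i 0) :
    1 ≤ β (Fin.rev ⟨i, lt_length_of_getD hi⟩) ∧ StrictMono (dn β (Fin.rev ⟨i, lt_length_of_getD hi⟩) 1) ∧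
      lam l.length (dn β (Fin.rev ⟨i, lt_length_of_getD hi⟩) 1) = rm l i := by
  have hil := lt_length_of_getD hi
  obtain ⟨j, hj⟩ : ∃ j, j = Fin.rev (⟨i, hil⟩ : Fin l.length) := ⟨_, rfl⟩
  have hjv : (j : ℕ) = l.length - 1 - i := by rw [hj, Fin.val_rev]; simp only; omega
  have h1 : l.getD i 0 = β j - (l.length - 1 - i) := by
    have h9 := getD_lam β hil
    rw [h] at h9
    rw [h9, hj]
  rw [← hj]
  have h2 : 1 ≤ β j := by omega
  have hinj : Function.Injective (dn β j 1) := by
    intro a b hab
    by_cases ha : a = j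
    · by_cases hb : b = j
      · rw [ha, hb]
      · exfalso
        subst ha
        rw [dn_self, dn_ne _ _ hb] at hab
        have hba : b < a := hβ.lt_iff_lt.1 (by omega)
        -- `b = a - 1`
        have hb1 : (b : ℕ) + 1 = a := by
          by_contra hne
          have h3 : (b : ℕ) + 1 < a := by
            have : (b : ℕ) < a := hba
            omega
          have h4 : b < (⟨b + 1, by omega⟩ : Fin l.length) := by simp [Fin.lt_def]
          have h5 : (⟨b + 1, by omega⟩ : Fin l.length) < a := by simp [Fin.lt_def]; exact h3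
          have h6 := hβ h4
          have h7 := hβ h5
          omega
        have hi1 : i + 1 < l.length := by omega
        have h8 : l.getD (i + 1) 0 = β b - (l.length - 1 - (i + 1)) := by
          have h9 := getD_lam β hi1
          rw [h] at h9
          rw [h9]
          congr 2
          apply Fin.ext
          rw [Fin.val_rev]
          simp only
          omega
        omega
    · by_cases hb : b = j
      · exfalso
        subst hb
        rw [dn_self, dn_ne _ _ ha] at hab
        have hba : a < b := hβ.lt_iff_lt.1 (by omega)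
        have hb1 : (a : ℕ) + 1 = b := by
          by_contra hne
          have h3 : (a : ℕ) + 1 < b := by
            have : (a : ℕ) < b := hba
            omega
          have h4 : a < (⟨a + 1, by omega⟩ : Fin l.length) := by simp [Fin.lt_def]
          have h5 : (⟨a + 1, by omega⟩ : Fin l.length) < b := by simp [Fin.lt_def]; exact h3
          have h6 := hβ h4
          have h7 := hβ h5
          omega
        have hi1 : i + 1 < l.length := by omega
        have h8 : l.getD (i + 1) 0 = β a - (l.length - 1 - (i + 1)) := by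
          have h9 := getD_lam β hi1
          rw [h] at h9
          rw [h9]
          congr 2
          apply Fin.ext
          rw [Fin.val_rev]
          simp only
          omega
        omega
      · rw [dn_ne _ _ ha, dn_ne _ _ hb] at hab
        exact hβ.injective hab
  refine ⟨h2, strictMono_dn hβ h2 hinj, ?_⟩
  apply List.ext_getElem
  · rw [length_lam, length_rm]
  · intro k hk1 hk2
    rw [length_lam] at hk1
    have e1 := getD_lam (dn β j 1) hk1
    have e2 := getD_rm hil k
    have e3 := getD_lam β hk1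
    rw [h] at e3
    rw [List.getD_eq_getElem _ _ (by rw [length_lam]; exact hk1)] at e1
    rw [List.getD_eq_getElem _ _ hk2] at e2
    rw [e1, e2]
    by_cases hki : k = i
    · subst hki
      rw [if_pos rfl, e3, ← hj, dn_self]
      omega
    · rw [if_neg hki, e3, dn_ne]
      intro h0
      apply hki
      have := congrArg Fin.val h0
      rw [hjv, Fin.val_rev] at this
      simp only at this
      omega

theorem dec_rm {l : List ℕ} (hl : Dec l) {i : ℕ} (hi : l.getD (i + 1) 0 < l.getD i 0) : Dec (rm l i) := by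
  obtain ⟨β, h1, h2⟩ := exists_tuple hl
  obtain ⟨-, h4, h5⟩ := exists_dn h1 h2 hi
  rw [← h5]
  exact dec_lam _ _ h4

theorem sum_rm_aux : ∀ (l : List ℕ) (i : ℕ), 0 < l.getD i 0 → (l.set i (l.getD i 0 - 1)).sum + 1 = l.sum := by
  intro l
  induction l with
  | nil => intro i h; simp at h
  | cons a l ih =>
    intro i h
    cases i with
    | zero =>
      simp only [List.getD_cons_zero, List.set_cons_zero, List.sum_cons] at h ⊢
      omega
    | succ i =>
      simp only [List.getD_cons_succ, List.set_cons_succ, List.sum_cons] at h ⊢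
      have := ih i h
      omega

theorem sum_rm {l : List ℕ} {i : ℕ} (hi : l.getD (i + 1) 0 < l.getD i 0) : (rm l i).sum + 1 = l.sum :=
  sum_rm_aux l i (by omega)

theorem term_nonneg {m n : ℕ} {β : Fin m → ℕ} (hβ : StrictMono β) (hs : ∑ i, β i = n + 1 + ∑ i : Fin m, (i : ℕ))
    (j : Fin m) : 0 ≤ if 1 ≤ β j then FM (Multiset.replicate n 1) (dn β j 1) else 0 := by
  split_ifs with h
  · by_cases hinj : Function.Injective (dn β j 1)
    · apply le_of_lt
      apply FM_ones_pos n (strictMono_dn hβ h hinj)
      have := sum_dn β j h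
      omega
    · rw [(FM_alt _).eq_zero_of_not_injective two_torsion_int hinj]
  · exact le_rfl

theorem branch_one {l : List ℕ} {n : ℕ} (hl : Dec l) (hs : l.sum = n + 1) {i : ℕ}
    (hi : l.getD (i + 1) 0 < l.getD i 0) {d d1 : ℕ} (hd : d * hookProd l = (n + 1).factorial)
    (hd1 : d1 * hookProd (rm l i) = n.factorial) : d1 ≤ d := by
  obtain ⟨β, h1, h2⟩ := exists_tuple hl
  obtain ⟨h3, h4, h5⟩ := exists_dn h1 h2 hi
  have h6 := sum_tuple h1 h2 hs
  have h7 := deg_unique h1 h2 hs hd
  have h8 := deg_unique h4 h5 (by have := sum_rm hi; omega) hd1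
  have h9 : (d1 : ℤ) ≤ d := by
    rw [h7, h8, Multiset.replicate_succ, FM_cons]
    have := Finset.single_le_sum (f := fun j => if 1 ≤ β j then FM (Multiset.replicate n 1) (dn β j 1) else 0)
      (fun j _ => term_nonneg h1 h6 j) (mem_univ (Fin.rev ⟨i, lt_length_of_getD hi⟩))
    rw [if_pos h3] at this
    exact this
  exact_mod_cast h9

theorem branch_two {l : List ℕ} {n : ℕ} (hl : Dec l) (hs : l.sum = n + 1) {i k : ℕ} (hik : i ≠ k)
    (hi : l.getD (i + 1) 0 < l.getD i 0) (hk : l.getD (k + 1) 0 < l.getD k 0) {d d1 d2 : ℕ}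
    (hd : d * hookProd l = (n + 1).factorial)
    (hd1 : d1 * hookProd (rm l i) = n.factorial) (hd2 : d2 * hookProd (rm l k) = n.factorial) : d1 + d2 ≤ d := by
  obtain ⟨β, h1, h2⟩ := exists_tuple hl
  obtain ⟨h3, h4, h5⟩ := exists_dn h1 h2 hi
  obtain ⟨h3', h4', h5'⟩ := exists_dn h1 h2 hk
  have h6 := sum_tuple h1 h2 hs
  have h7 := deg_unique h1 h2 hs hd
  have h8 := deg_unique h4 h5 (by have := sum_rm hi; omega) hd1
  have h8' := deg_unique h4' h5' (by have := sum_rm hk; omega) hd2
  have hne : (Fin.rev ⟨i, lt_length_of_getD hi⟩ : Fin l.length) ≠ Fin.rev ⟨k, lt_length_of_getD hk⟩ := by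
    intro h
    have := Fin.rev_injective h
    exact hik (congrArg Fin.val this)
  have h9 : (d1 : ℤ) + d2 ≤ d := by
    rw [h7, h8, h8', Multiset.replicate_succ, FM_cons]
    have h10 := Finset.sum_le_sum_of_subset_of_nonneg
      (f := fun j => if 1 ≤ β j then FM (Multiset.replicate n 1) (dn β j 1) else 0)
      (Finset.subset_univ {(Fin.rev ⟨i, lt_length_of_getD hi⟩ : Fin l.length), Fin.rev ⟨k, lt_length_of_getD hk⟩})
      (fun j _ _ => term_nonneg h1 h6 j)
    rw [Finset.sum_pair hne, if_pos h3, if_pos h3'] at h10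
    exact h10
  exact_mod_cast h9

end Cfsg.Agent.H704
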