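import Cfsg.Agent.H704.EnumP

/-!
# Degrees of `S_n` dividing `2 |J_3|` for `n = 22, 25, 26, 27, 28` (helper704)
-/

set_option autoImplicit false

namespace Cfsg.Agent.H704

/-- the check -/
def j3Chk (d : ℕ) : Bool :=
  !(Nat.beq (Nat.mod (2 * 50232960) d) 0) || decide (d = 1) || decide (Nat.mod d 3 = 0)

theorem of_j3Chk {d : ℕ} (h : j3Chk d = true) (hd : d ∣ 2 * 50232960) : d = 1 ∨ 3 ∣ d := by
  unfold j3Chk at h
  rw [show Nat.mod (2 * 50232960) d = 0 from Nat.mod_eq_zero_of_dvd hd] at h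
  simp only [Bool.or_eq_true, decide_eq_true_eq, Bool.not_eq_true'] at h
  rcases h with (h | h) | h
  · exact absurd h (by decide)
  · exact Or.inl h
  · exact Or.inr (Nat.dvd_of_mod_eq_zero h)

theorem not_dvd_J3 {d : ℕ} (hd : d ∣ 2 * 50232960) : ¬ 23 ∣ d := fun h => by
  have := h.trans hd
  revert this
  decide

theorem deg_J3_22 {d : ℕ} (h : IsDeg 22 d) (hd : d ∣ 2 * 50232960) : d = 1 ∨ 3 ∣ d :=
  of_j3Chk (check_of_isDeg (chk := j3Chk) (by decide +kernel) h) hd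

theorem deg_J3_25 {d : ℕ} (h : IsDeg 25 d) (hd : d ∣ 2 * 50232960) : d = 1 ∨ 3 ∣ d :=
  of_j3Chk (check_of_isDegP (chk := j3Chk) (n := 25) (E := 2) (r := 23) (by norm_num) (by norm_num) (by norm_num)
    (by decide +kernel) h (not_dvd_J3 hd)) hd

theorem deg_J3_26 {d : ℕ} (h : IsDeg 26 d) (hd : d ∣ 2 * 50232960) : d = 1 ∨ 3 ∣ d :=
  of_j3Chk (check_of_isDegP (chk := j3Chk) (n := 26) (E := 3) (r := 23) (by norm_num) (by norm_num) (by norm_num)
    (by decide +kernel) h (not_dvd_J3 hd)) hd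

theorem deg_J3_27 {d : ℕ} (h : IsDeg 27 d) (hd : d ∣ 2 * 50232960) : d = 1 ∨ 3 ∣ d :=
  of_j3Chk (check_of_isDegP (chk := j3Chk) (n := 27) (E := 4) (r := 23) (by norm_num) (by norm_num) (by norm_num)
    (by decide +kernel) h (not_dvd_J3 hd)) hd

theorem deg_J3_28 {d : ℕ} (h : IsDeg 28 d) (hd : d ∣ 2 * 50232960) : d = 1 ∨ 3 ∣ d :=
  of_j3Chk (check_of_isDegP (chk := j3Chk) (n := 28) (E := 5) (r := 23) (by norm_num) (by norm_num) (by norm_num)
    (by decide +kernel) h (not_dvd_J3 hd)) hd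

theorem deg_J3 {n d : ℕ} (hn : n = 22 ∨ n = 25 ∨ n = 26 ∨ n = 27 ∨ n = 28) (h : IsDeg n d) (hd : d ∣ 2 * 50232960) :
    d = 1 ∨ 3 ∣ d := by
  rcases hn with rfl | rfl | rfl | rfl | rfl
  · exact deg_J3_22 h hd
  · exact deg_J3_25 h hd
  · exact deg_J3_26 h hd
  · exact deg_J3_27 h hd
  · exact deg_J3_28 h hd

end Cfsg.Agent.H704
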