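import Cfsg.Agent.H704.EnumP

/-!
# Degrees of `S_n` dividing `2 |Ru|` for `n = 35, 36` (helper704)
-/

set_option autoImplicit false

namespace Cfsg.Agent.H704

/-- the check -/
def ruChk (d : ℕ) : Bool :=
  !(Nat.beq (Nat.mod (2 * 145926144000) d) 0) || decide (d = 1) || decide (Nat.mod d 5 = 0)

theorem of_ruChk {d : ℕ} (h : ruChk d = true) (hd : d ∣ 2 * 145926144000) : d = 1 ∨ 5 ∣ d := by
  unfold ruChk at h
  rw [show Nat.mod (2 * 145926144000) d = 0 from Nat.mod_eq_zero_of_dvd hd] at h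
  simp only [Bool.or_eq_true, decide_eq_true_eq, Bool.not_eq_true'] at h
  rcases h with (h | h) | h
  · exact absurd h (by decide)
  · exact Or.inl h
  · exact Or.inr (Nat.dvd_of_mod_eq_zero h)

theorem not_dvd_Ru {d : ℕ} (hd : d ∣ 2 * 145926144000) : ¬ 31 ∣ d := fun h => by
  have := h.trans hd
  revert this
  decide

theorem deg_Ru_35 {d : ℕ} (h : IsDeg 35 d) (hd : d ∣ 2 * 145926144000) : d = 1 ∨ 5 ∣ d :=
  of_ruChk (check_of_isDegP (chk := ruChk) (n := 35) (E := 4) (r := 31) (by norm_num) (by norm_num) (by norm_num)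
    (by decide +kernel) h (not_dvd_Ru hd)) hd

theorem deg_Ru_36 {d : ℕ} (h : IsDeg 36 d) (hd : d ∣ 2 * 145926144000) : d = 1 ∨ 5 ∣ d :=
  of_ruChk (check_of_isDegP (chk := ruChk) (n := 36) (E := 5) (r := 31) (by norm_num) (by norm_num) (by norm_num)
    (by decide +kernel) h (not_dvd_Ru hd)) hd

theorem deg_Ru {n d : ℕ} (hn : n = 35 ∨ n = 36) (h : IsDeg n d) (hd : d ∣ 2 * 145926144000) : d = 1 ∨ 5 ∣ d := by
  rcases hn with rfl | rfl
  · exact deg_Ru_35 h hd
  · exact deg_Ru_36 h hd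

end Cfsg.Agent.H704
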