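import Cfsg.Agent.H704.Elim
import Cfsg.Agent.H704.DegJ3
import Cfsg.Agent.H704.DegRu
import Cfsg.Agent.S2040

/-!
# Sporadic quotients (helper704)
-/

set_option autoImplicit false
set_option linter.unusedSectionVars false

universe u

namespace Cfsg.Agent.H704

open Cfsg Subgroup

/-- `J_3` -/
theorem j3_elim {n : ℕ} (hn : n = 22 ∨ n = 25 ∨ n = 26 ∨ n = 27 ∨ n = 28) {T : Type u} [Group T] [Finite T]
    (hT : commutator T = ⊤) (hd : DegOK n T) (hc : Nat.card T = 50232960) : False := by
  obtain ⟨ψ, e, hψ, hψe, he1, hpe, heT, -⟩ := H621.SymDeg.exists_irr_not_dvd hT Nat.prime_three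
    (by rw [hc]; norm_num)
  obtain ⟨d, h1, h2⟩ := hd.nat hψ hψe
  rw [hc] at heT
  have h3 : d ∣ 2 * 50232960 := by
    rcases h2 with rfl | rfl
    · exact heT.mul_left 2
    · exact Nat.mul_dvd_mul_left 2 heT
  rcases deg_J3 hn h1 h3 with h4 | h4
  · omega
  · rcases h2 with rfl | rfl
    · exact hpe h4
    · rcases (Nat.prime_three.dvd_mul).1 h4 with h | h
      · omega
      · exact hpe h

/-- `Ru` -/
theorem ru_elim {n : ℕ} (hn : n = 35 ∨ n = 36) {T : Type u} [Group T] [Finite T]
    (hT : commutator T = ⊤) (hd : DegOK n T) (hc : Nat.card T = 145926144000) : False := by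
  obtain ⟨ψ, e, hψ, hψe, he1, hpe, heT, -⟩ := H621.SymDeg.exists_irr_not_dvd hT Nat.prime_five
    (by rw [hc]; norm_num)
  obtain ⟨d, h1, h2⟩ := hd.nat hψ hψe
  rw [hc] at heT
  have h3 : d ∣ 2 * 145926144000 := by
    rcases h2 with rfl | rfl
    · exact heT.mul_left 2
    · exact Nat.mul_dvd_mul_left 2 heT
  rcases deg_Ru hn h1 h3 with h4 | h4
  · omega
  · rcases h2 with rfl | rfl
    · exact hpe h4
    · rcases (Nat.prime_five.dvd_mul).1 h4 with h | h
      · omega
      · exact hpe h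

/-- a subgroup of index `22` -/
theorem m22_elim {n : ℕ} (hn : n = 11 ∨ n = 12) {T : Type u} [Group T] [Finite T]
    (hT : commutator T = ⊤) (hd : DegOK n T) (hK : ∃ K : Subgroup T, K.index = 22) : False := by
  classical
  obtain ⟨K, hK⟩ := hK
  obtain ⟨s, hs, hsum⟩ := H621.SymDeg.exists_sum_index K
  -- natural degrees
  have hf : ∃ f : (T → ℂ) → ℕ, ∀ ψ : T → ℂ, IsIrrCharacter T ψ → 0 < f ψ ∧ ψ 1 = (f ψ : ℂ) := by
    refine ⟨fun ψ => if h : IsIrrCharacter T ψ then (Characters.Core.isIrr_apply_one h).choose else 0, ?_⟩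
    intro ψ h
    simp only [dif_pos h]
    exact (Characters.Core.isIrr_apply_one h).choose_spec
  obtain ⟨f, hf⟩ := hf
  have h1 : (s.map fun ψ => ψ 1) = (s.map f).map (Nat.cast : ℕ → ℂ) := by
    rw [Multiset.map_map]
    apply Multiset.map_congr rfl
    intro ψ hψ
    exact (hf ψ (hs ψ hψ).1).2
  have h2 : (s.map f).sum = 21 := by
    rw [h1, hK, ← Nat.cast_multiset_sum] at hsum
    have h3 : (((s.map f).sum : ℕ) : ℂ) = ((21 : ℕ) : ℂ) := by rw [hsum]; norm_num
    exact_mod_cast h3
  have h3 : ∀ ψ ∈ s, f ψ ≤ 21 ∧ 1 < f ψ := by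
    intro ψ hψ
    constructor
    · rw [← h2]
      exact Multiset.single_le_sum (fun x _ => Nat.zero_le x) _ (Multiset.mem_map_of_mem f hψ)
    · obtain ⟨g1, g2⟩ := hs ψ hψ
      obtain ⟨g3, g4⟩ := hf ψ g1
      by_contra hne
      have g5 : f ψ = 1 := by omega
      rw [g5, Nat.cast_one] at g4
      exact g2 (H621.SymDeg.eq_one_of_perfect hT g1 g4)
  have h4 : ∀ ψ ∈ s, ∃ d : ℕ, (d = f ψ ∨ d = 2 * f ψ) ∧ (d = 1 ∨ d = n - 1 ∨ n * (n - 3) ≤ 2 * d) := by
    intro ψ hψ
    obtain ⟨d, g1, g2⟩ := hd.nat (hs ψ hψ).1 (hf ψ (hs ψ hψ).1).2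
    exact ⟨d, g2, low_degree (by omega) g1⟩
  rcases hn with rfl | rfl
  · have h5 : ∀ x ∈ s.map f, 5 ∣ x := by
      intro x hx
      obtain ⟨ψ, hψ, rfl⟩ := Multiset.mem_map.1 hx
      obtain ⟨d, g1, g2⟩ := h4 ψ hψ
      have g3 := h3 ψ hψ
      omega
    have h6 := Multiset.dvd_sum h5
    rw [h2] at h6
    omega
  · have h5 : ∀ x ∈ s.map f, 11 ∣ x := by
      intro x hx
      obtain ⟨ψ, hψ, rfl⟩ := Multiset.mem_map.1 hx
      obtain ⟨d, g1, g2⟩ := h4 ψ hψ
      have g3 := h3 ψ hψ
      omega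
    have h6 := Multiset.dvd_sum h5
    rw [h2] at h6
    omega

/-- a homomorphism from a perfect group to an abelian group is trivial -/
theorem hom_eq_one {H A : Type*} [Group H] [Group A] (hH : commutator H = ⊤) (hA : ∀ a b : A, a * b = b * a)
    (f : H →* A) (x : H) : f x = 1 := by
  have hx : x ∈ commutator H := by rw [hH]; exact mem_top x
  have h1 : commutator H ≤ f.ker := by
    rw [commutator_def, commutator_le]
    intro a _ b _
    rw [MonoidHom.mem_ker, map_commutatorElement, commutatorElement_def, hA (f a) (f b)]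
    group
  exact h1 hx

/-- a normal subgroup of order `3` of a perfect group is central -/
theorem central_of_card_three {H : Type*} [Group H] (hH : commutator H = ⊤) (M : Subgroup H) [M.Normal]
    (hM : Nat.card M = 3) : M ≤ center H := by
  have : Fact (Nat.card M).Prime := ⟨by rw [hM]; exact Nat.prime_three⟩
  have hcyc : IsCyclic M := isCyclic_of_prime_card (p := Nat.card M) rfl
  have hA : ∀ a b : MulAut M, a * b = b * a := by
    obtain ⟨g, hg⟩ := hcyc.exists_generator
    intro a b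
    ext x
    congr 1
    obtain ⟨k, hk⟩ := hg (a g)
    obtain ⟨l, hl⟩ := hg (b g)
    obtain ⟨m, rfl⟩ := hg x
    simp only [MulAut.mul_apply, map_zpow] at *
    rw [← hk, ← hl]
    simp only [map_zpow]
    rw [← hk, ← hl]
    simp only [← zpow_mul]
    congr 1
    ring
  intro m hm
  rw [mem_center_iff]
  intro x
  have h1 := hom_eq_one hH hA (MulAut.conjNormal (H := M)) x
  have h2 : (MulAut.conjNormal x : MulAut M) ⟨m, hm⟩ = ⟨m, hm⟩ := by rw [h1]; rfl
  have h3 := congrArg Subtype.val h2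
  rw [MulAut.conjNormal_apply] at h3
  simp only at h3
  rw [mul_inv_eq_iff_eq_mul] at h3
  exact h3

/-- perfect central extensions of `J_2` -/
theorem card_ker_J2 {K : Type u} [Group K] [Finite K] (hK : commutator K = ⊤) (f : K →* Spor.J2)
    (hf : Function.Surjective f) (hc : f.ker ≤ center K) : Nat.card f.ker ≤ 2 := by
  let e : Shrink.{0} K ≃* K := Shrink.mulEquiv
  have : Finite (Shrink.{0} K) := Finite.of_equiv K e.symm.toEquiv
  have hstem : IsStemExtension (f.comp (e : Shrink.{0} K →* K)) := by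
    refine ⟨hf.comp e.surjective, ?_, ?_⟩
    · intro x hx
      rw [MonoidHom.mem_ker, MonoidHom.comp_apply] at hx
      have h1 := hc (MonoidHom.mem_ker.2 hx)
      rw [mem_center_iff] at h1 ⊢
      intro y
      apply e.injective
      rw [map_mul, map_mul]
      exact h1 (e y)
    · have : commutator (Shrink.{0} K) = ⊤ := by
        rw [eq_top_iff]
        have h2 : (commutator K).map (e.symm : K →* Shrink.{0} K) ≤ commutator (Shrink.{0} K) := by
          rw [commutator_def, commutator_def, map_commutator]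
          exact commutator_mono le_top le_top
        refine le_trans ?_ h2
        rw [hK, ← MonoidHom.range_eq_map]
        rw [MonoidHom.range_eq_top.2 e.symm.surjective]
      rw [this]
      exact le_top
  obtain ⟨π, hπ⟩ := S2040.result.2 _ _ hstem
  have h1 : Nat.card (f.comp (e : Shrink.{0} K →* K)).ker ≤ 2 := by
    have h2 := Nat.card_le_card_of_surjective π hπ
    rwa [Nat.card_congr Multiplicative.toAdd, Nat.card_zmod] at h2
  have h2 : Nat.card f.ker = Nat.card (f.comp (e : Shrink.{0} K →* K)).ker := by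
    refine Nat.card_congr ⟨fun x => ⟨e.symm x, by
      rw [MonoidHom.mem_ker, MonoidHom.comp_apply]
      show f (e (e.symm (x : K))) = 1
      rw [e.apply_symm_apply]
      exact x.2⟩, fun x => ⟨e x, x.2⟩, fun x => by simp, fun x => by simp⟩
  rw [h2]
  exact h1

theorem j2_elim {H : Type u} [Group H] [Finite H] (hH : commutator H = ⊤) (M : Subgroup H) [M.Normal]
    (h : Spor.IsoJ2 (H ⧸ M)) (hM : Nat.card M = 3) : False := by
  obtain ⟨e⟩ := h
  have h1 : ((e : H ⧸ M →* Spor.J2).comp (QuotientGroup.mk' M)).ker = M := by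
    rw [MonoidHom.ker_mulEquiv_comp, QuotientGroup.ker_mk']
  have h2 := card_ker_J2 hH ((e : H ⧸ M →* Spor.J2).comp (QuotientGroup.mk' M))
    (e.surjective.comp (QuotientGroup.mk'_surjective M)) (by rw [h1]; exact central_of_card_three hH M hM)
  rw [h1, hM] at h2
  omega

end Cfsg.Agent.H704
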