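import Cfsg.Agent.H704.PP
import Cfsg.Agent.H704.Elim
import Cfsg.Agent.H704.SporCases
import Cfsg.Agent.H621.SymDeg.Final
import Cfsg.Agent.H603.SporElim
import Cfsg.Agent.H937.SmallElimT
import Cfsg.Agent.H937.L34Seven
import Cfsg.Agent.H808.SimpleQuot
import Cfsg.Agent.H808.SmallSylow
import Cfsg.Agent.H167.HasStLie
import Cfsg.Agent.OrdCrit.Main
import Cfsg.Agent.OrdDiv.Table
import Cfsg.Agent.H964.NoHall.RowsM
import Cfsg.Agent.NotCT.Orders
import Cfsg.Agent.PreUniq.Cases
import Cfsg.Agent.H597.Degrees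
import Cfsg.Agent.S0243
import Cfsg.Agent.H894.CompSimp

/-!
# A group with the degree multiset of `S_n` is `S_n` (helper704)
-/

set_option autoImplicit false
set_option linter.unusedSectionVars false

universe u

namespace Cfsg.Agent.H704

open Cfsg Subgroup

/-- no irreducible character of degree two -/
theorem not_isDeg_two {n : ℕ} (hn : 5 ≤ n) : ¬ IsDeg n 2 := by
  intro h
  by_cases h9 : 9 ≤ n
  · rcases low_degree h9 h with h1 | h1 | h1
    · omega
    · omega
    · have h2 : 9 * 6 ≤ n * (n - 3) := Nat.mul_le_mul h9 (by omega)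
      omega
  · obtain ⟨g5, g6, g7, g8, -⟩ := deg_small h
    have : n = 5 ∨ n = 6 ∨ n = 7 ∨ n = 8 := by omega
    rcases this with rfl | rfl | rfl | rfl
    · have := g5 rfl; revert this; decide
    · have := g6 rfl; revert this; decide
    · have := g7 rfl; revert this; decide
    · have := g8 rfl; revert this; decide

section

variable {n : ℕ} {G : Type u} [Group G] [Finite G] (f : IrrCharacter G ≃ IrrCharacter (Equiv.Perm (Fin n)))
  (hf : ∀ χ : IrrCharacter G, charDegree ((f χ) : Equiv.Perm (Fin n) → ℂ) = charDegree (χ : G → ℂ))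

include f hf

/-- the degrees -/
theorem deg_of_equiv {χ : G → ℂ} (hχ : IsIrrCharacter G χ) : ∃ d : ℕ, χ 1 = d ∧ IsDeg n d := by
  obtain ⟨d, h1, h2⟩ := isDeg_of_irr (f ⟨χ, hχ⟩).2
  refine ⟨d, ?_, h2⟩
  have h3 := hf ⟨χ, hχ⟩
  rw [Blocks.Basic.irr_one_eq_charDegree hχ, ← h3, ← Blocks.Basic.irr_one_eq_charDegree (f ⟨χ, hχ⟩).2, h1]

theorem index_eq_two (hn : 5 ≤ n) : (commutator G).index = 2 := by
  have : Nontrivial (Fin n) := Fin.nontrivial_iff_two_le.2 (by omega)
  rw [H621.SymDeg.index_commutator_eq f hf, alternatingGroup.commutator_perm_eq (by rw [Nat.card_fin]; exact hn)]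
  exact alternatingGroup.index_eq_two

theorem two_mul_card (hn : 5 ≤ n) : 2 * Nat.card (commutator G) = n.factorial := by
  have h1 := (commutator G).card_mul_index
  rw [index_eq_two f hf hn, H621.SymDeg.card_eq_of f hf, Nat.card_perm, Nat.card_fin] at h1
  rw [mul_comm]
  exact h1

theorem perfect (hn : 5 ≤ n) : commutator ↥(commutator G) = ⊤ := by
  refine H621.SymDeg.perfect_of_degrees ?_ (index_eq_two f hf hn)
  intro χ hχ h2
  obtain ⟨d, h3, h4⟩ := deg_of_equiv f hf hχ
  rw [h3] at h2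
  have h5 : d = 2 := by exact_mod_cast h2
  exact not_isDeg_two hn (h5 ▸ h4)

theorem degOK (hn : 5 ≤ n) : DegOK n ↥(commutator G) := by
  intro ψ hψ
  obtain ⟨χ, h1, h2⟩ := H621.SymDeg.exists_over (index_eq_two f hf hn) hψ
  obtain ⟨d, h3, h4⟩ := deg_of_equiv f hf h1
  refine ⟨d, h4, ?_⟩
  rw [← h3]
  exact h2

end

/-! ### Quotients of `H = G'` -/

theorem perfect_quot {H : Type*} [Group H] (hH : commutator H = ⊤) (M : Subgroup H) [M.Normal] :
    commutator (H ⧸ M) = ⊤ := by
  rw [eq_top_iff]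
  have h2 : (commutator H).map (QuotientGroup.mk' M) ≤ commutator (H ⧸ M) := by
    rw [commutator_def, commutator_def, map_commutator]
    exact commutator_mono le_top le_top
  refine le_trans ?_ h2
  rw [hH, ← MonoidHom.range_eq_map, MonoidHom.range_eq_top.2 (QuotientGroup.mk'_surjective M)]

theorem iso_of_quot {H : Type*} [Group H] [Finite H] (M : Subgroup H) [M.Normal] {n : ℕ} (hn : 5 ≤ n)
    (hN : 2 * Nat.card H = n.factorial) (h : Nonempty ((H ⧸ M) ≃* alternatingGroup (Fin n))) :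
    Nonempty (H ≃* alternatingGroup (Fin n)) := by
  obtain ⟨e⟩ := h
  have : Nontrivial (Fin n) := Fin.nontrivial_iff_two_le.2 (by omega)
  have h1 : Nat.card (H ⧸ M) = Nat.card H := by
    have h2 := two_mul_nat_card_alternatingGroup (α := Fin n)
    rw [Nat.card_perm, Nat.card_fin, ← hN, ← Nat.card_congr e.toEquiv] at h2
    omega
  have hinj : Function.Injective (QuotientGroup.mk' M) :=
    ((Nat.bijective_iff_surjective_and_card _).2 ⟨QuotientGroup.mk'_surjective M, h1.symm⟩).1
  exact ⟨(MulEquiv.ofBijective (QuotientGroup.mk' M) ⟨hinj, QuotientGroup.mk'_surjective M⟩).trans e⟩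

theorem card_quot_dvd {H : Type*} [Group H] [Finite H] (M : Subgroup H) [M.Normal] {n : ℕ}
    (hN : 2 * Nat.card H = n.factorial) : 2 * Nat.card (H ⧸ M) ∣ n.factorial := by
  rw [← hN]
  exact Nat.mul_dvd_mul_left 2 (Subgroup.card_quotient_dvd_card M)

/-- a prime in `(n / 2, n]` divides `n !` exactly once -/
theorem prime_facts {n r N : ℕ} (hn : 5 ≤ n) (hN : 2 * N = n.factorial) (hr : r.Prime) (h1 : n < 2 * r) (h2 : r ≤ n) :
    r ∣ N ∧ ¬ r ^ 2 ∣ N := by
  constructor
  · have h3 : r ∣ 2 * N := by rw [hN]; exact (hr.dvd_factorial).2 h2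
    rcases hr.dvd_mul.1 h3 with h | h
    · have := Nat.le_of_dvd (by norm_num) h
      omega
    · exact h
  · intro h3
    have h8 : r ^ 2 ∣ n.factorial := by rw [← hN]; exact h3.mul_left 2
    have hpp : r * r > n := by nlinarith [hr.two_le]
    rw [(hr.pow_dvd_factorial_iff (n := n) (r := 2) (b := 2) (by
      exact Nat.log_lt_of_lt_pow (by omega) (by rw [pow_two]; exact hpp)))] at h8
    have h9 : ∑ i ∈ Finset.Ico 1 2, n / r ^ i = n / r := by simp
    rw [h9] at h8
    have h10 := (Nat.le_div_iff_mul_le hr.pos).1 h8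
    omega

/-- the check of the orders for `n = 12` -/
def ordChk (l : List (ℕ × ℕ)) (N : ℕ) : Bool :=
  (OrdDiv.cands l N).all fun g => !(Nat.beq (OrdDiv.ordN g % 27) 0) || Nat.beq (OrdDiv.ordN g % 81) 0 ||
    Nat.ble 19683 (OrdDiv.ordN g) || Nat.beq (OrdDiv.ordN g) 6048

theorem card_twelve {T : Type u} [Group T] [Finite T] [IsSimpleGroup T] (hkn : IsKnownSimple' T)
    (hna : ¬ IsMulCommutative T) (hdvd : 2 * Nat.card T ∣ Nat.factorial 12)
    (h27 : 3 ^ (Nat.card T).factorization 3 = 27) (hlt : Nat.card T < 27 ^ 3) : Nat.card T = 6048 := by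
  have hv : OrdDiv.valid [(2, 9), (3, 5), (5, 2), (7, 1), (11, 1)] 239500800 = true := by decide +kernel
  have hd : Nat.card T ∣ 239500800 := by
    have h1 : Nat.factorial 12 = 2 * 239500800 := by decide +kernel
    rw [h1] at hdvd
    exact Nat.dvd_of_mul_dvd_mul_left (by norm_num) hdvd
  obtain ⟨g, hg, -, ho⟩ := OrdDiv.exists_good OrdDiv.table hkn (fun h => hna ⟨⟨h⟩⟩) hv hd
  have hc : ordChk [(2, 9), (3, 5), (5, 2), (7, 1), (11, 1)] 239500800 = true := by decide +kernel
  unfold ordChk at hc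
  rw [List.all_eq_true] at hc
  have h1 := hc g hg
  rw [← ho] at h1
  simp only [Bool.or_eq_true, Bool.not_eq_true', Nat.ble_eq] at h1
  have h3 : (Nat.card T).factorization 3 = 3 := by
    apply Nat.pow_right_injective (le_refl 3 |>.trans' (by norm_num) : 2 ≤ 3)
    simpa using h27
  have h4 : 27 ∣ Nat.card T := by
    have := (Nat.prime_three.pow_dvd_iff_le_factorization (k := 3) (Nat.card_pos (α := T)).ne').2 (by omega)
    norm_num at this
    exact this
  have h5 : ¬ 81 ∣ Nat.card T := by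
    intro h
    have := (Nat.prime_three.pow_dvd_iff_le_factorization (k := 4) (Nat.card_pos (α := T)).ne').1 (by norm_num; exact h)
    omega
  rcases h1 with ((h1 | h1) | h1) | h1
  · exfalso
    rw [Nat.mod_eq_zero_of_dvd h4] at h1
    exact absurd h1 (by decide)
  · exact absurd (Nat.dvd_of_mod_eq_zero (Nat.eq_of_beq_eq_true h1)) h5
  · exfalso; norm_num at hlt; omega
  · exact Nat.eq_of_beq_eq_true h1

/-- a simple quotient of order divisible by a prime `r` with `n + 1 < 2 r ≤ 2 n` -/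
theorem quot_cases {n : ℕ} (hn : 10 ≤ n) {T : Type u} [Group T] [Finite T] [IsSimpleGroup T] (hkn : IsKnownSimple' T)
    (hna : ¬ IsMulCommutative T) (hT : commutator T = ⊤) (hd : DegOK n T) (hdvd : 2 * Nat.card T ∣ n.factorial)
    {r : ℕ} (hr : r.Prime) (hrn : n + 1 < 2 * r) (hrT : r ∣ Nat.card T) :
    Nonempty (T ≃* alternatingGroup (Fin n)) ∨ IsSporadicGroup T ∨ Lie.IsoTits T := by
  rcases PreUniq.known_cases hkn with h | ⟨m, hm, ⟨e⟩⟩ | ⟨p, hp, h⟩ | h | h
  · exfalso
    have : Fact (Nat.card T).Prime := ⟨h⟩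
    have : IsCyclic T := isCyclic_of_prime_card (p := Nat.card T) rfl
    exact hna inferInstance
  · have := alt_elim (by omega) hd hm e hr hrn hrT hdvd
    subst this
    exact Or.inl ⟨e⟩
  · exfalso
    have hcube : Nat.card T < (p ^ (Nat.card T).factorization p) ^ 3 := by
      by_cases hp2 : p = 2
      · subst hp2
        exact H808.SmallSylow.card_lt_cube_two h
      · exact OrdCrit.card_lt_cube hp hp2 h
    obtain ⟨χ, h1, h2, -⟩ := H167.StChar.hasSt_of_lie hp h
    refine lie_elim hn (fun {d p e} => pp_theorem hn) hp hT hd rfl ⟨χ, h1, h2⟩ hcube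
      (H808.SmallSylow.card_of_small_sylow hp h) ?_
    intro h12 h27
    subst h12
    have hp3 : p = 3 := by
      have h6 : p ∣ 3 := hp.dvd_of_dvd_pow (show p ∣ 3 ^ 3 by
        have h7 : (Nat.card T).factorization p ≠ 0 := by
          intro h0
          rw [h0, pow_zero] at h27
          norm_num at h27
        rw [show (3 : ℕ) ^ 3 = 27 by norm_num, ← h27]
        exact dvd_pow_self p h7)
      exact (Nat.prime_dvd_prime_iff_eq hp Nat.prime_three).1 h6
    subst hp3
    rw [h27] at hcube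
    exact card_twelve hkn hna hdvd h27 hcube
  · exact Or.inr (Or.inr h)
  · exact Or.inr (Or.inl h)

/-- `H ≅ A_n` for `10 ≤ n` -/
theorem iso_large {n : ℕ} (hn : 10 ≤ n) (hkn : ∀ (X : Type u) [Group X] [Finite X] [IsSimpleGroup X], IsKnownSimple' X)
    (hS : Cfsg.Agent.Schreier.Cases.SchFor.{u} @IsKnownSimple') {H : Type u} [Group H] [Finite H]
    (hH : commutator H = ⊤) (hd : DegOK n H) (hN : 2 * Nat.card H = n.factorial) :
    Nonempty (H ≃* alternatingGroup (Fin n)) := by
  by_contra hno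
  have hM : ∀ r : ℕ, r.Prime → n + 1 < 2 * r → r ≤ n → ∃ M : Subgroup H, ∃ _ : M.Normal,
      IsSimpleGroup (H ⧸ M) ∧ ¬ IsMulCommutative (H ⧸ M) ∧ r ∣ Nat.card (H ⧸ M) ∧
      (IsSporadicGroup (H ⧸ M) ∨ Lie.IsoTits (H ⧸ M)) := by
    intro r hr h1 h2
    obtain ⟨g1, g2⟩ := prime_facts (by omega) hN hr (by omega) h2
    obtain ⟨M, hMn, hMs, hMc, hMr⟩ := H808.SimpleQuot.exists_simple_quotient hkn hS hH hr g1 g2
    refine ⟨M, hMn, hMs, hMc, hMr, ?_⟩
    rcases quot_cases hn (hkn _) hMc (perfect_quot hH M) (hd.of_surj (QuotientGroup.mk' M)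
      (QuotientGroup.mk'_surjective M)) (card_quot_dvd M hN) hr h1 hMr with h | h
    · exact absurd (iso_of_quot M (by omega) hN h) hno
    · exact h
  obtain ⟨M, hMn, h⟩ := H603.SporElim.spor_elim hn hN hM (fun s hs => H808.SimpleQuot.prod_card_dvd s hs)
  have hT := perfect_quot hH M
  have hdT : DegOK n (H ⧸ M) := hd.of_surj (QuotientGroup.mk' M) (QuotientGroup.mk'_surjective M)
  rcases h with ⟨h1, h2⟩ | ⟨h1, h2⟩ | ⟨h1, h2⟩ | ⟨h1, h2⟩
  · subst h1
    refine j2_elim hH M h2 ?_
    have h3 := M.card_eq_card_quotient_mul_card_subgroup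
    rw [NotCT.Orders.j2 h2] at h3
    have h4 : Nat.factorial 10 = 3628800 := by decide +kernel
    rw [h4] at hN
    omega
  · refine m22_elim h1 hT hdT ?_
    obtain ⟨e⟩ := h2
    refine ⟨(MulAction.stabilizer Spor.M22 (some 1 : GolayPt)).comap (e : H ⧸ M →* Spor.M22), ?_⟩
    rw [Subgroup.index_comap_of_surjective _ e.surjective]
    exact H964.NoHall.m22_index
  · exact j3_elim h1 hT hdT (NotCT.Orders.j3 h2)
  · exact ru_elim h1 hT hdT (NotCT.Orders.ru h2)

/-- `H ≅ A_n` for `5 ≤ n ≤ 9` -/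
theorem iso_small {n : ℕ} (h5 : 5 ≤ n) (h9 : n ≤ 9)
    (hkn : ∀ (X : Type u) [Group X] [Finite X] [IsSimpleGroup X], IsKnownSimple' X)
    (hS : Cfsg.Agent.Schreier.Cases.SchFor.{u} @IsKnownSimple') {H : Type u} [Group H] [Finite H]
    (hH : commutator H = ⊤) (hd : DegOK n H) (hN : 2 * Nat.card H = n.factorial)
    (h7 : n = 8 → ∃ ψ : H → ℂ, IsIrrCharacter H ψ ∧ ψ 1 = 7) :
    Nonempty (H ≃* alternatingGroup (Fin n)) := by
  obtain ⟨g1, g2⟩ := prime_facts h5 hN Nat.prime_five (by omega) h5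
  obtain ⟨M, hMn, hMs, hMc, hMr⟩ := H808.SimpleQuot.exists_simple_quotient hkn hS hH Nat.prime_five g1 g2
  have hdT : DegOK n (H ⧸ M) := hd.of_surj (QuotientGroup.mk' M) (QuotientGroup.mk'_surjective M)
  have h7T : 7 ≤ n → 7 ∣ Nat.card (H ⧸ M) ∨ 2 * Nat.card (H ⧸ M) * 60 ≤ n.factorial := by
    intro h7n
    obtain ⟨k1, k2⟩ := prime_facts h5 hN Nat.prime_seven (by omega) h7n
    obtain ⟨L, hLn, hLs, hLc, hLr⟩ := H808.SimpleQuot.exists_simple_quotient hkn hS hH Nat.prime_seven k1 k2
    by_cases hML : M = L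
    · subst hML
      exact Or.inl hLr
    · right
      classical
      have h3 := H808.SimpleQuot.prod_card_dvd ({M, L} : Finset (Subgroup H)) (by
        intro K hK
        rw [Finset.mem_insert, Finset.mem_singleton] at hK
        rcases hK with rfl | rfl
        · exact ⟨hMn, hMs, hMc⟩
        · exact ⟨hLn, hLs, hLc⟩)
      rw [Finset.prod_pair hML] at h3
      have h4 := Nat.le_of_dvd Nat.card_pos h3
      have h5 : 60 ≤ L.index := H894.sixty_le hLc
      have h6 : M.index * 60 ≤ M.index * L.index := Nat.mul_le_mul_left _ h5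
      rw [← hN]
      change 2 * M.index * 60 ≤ _
      nlinarith
  rcases H937.SmallElim.small_elim h5 h9 (hkn _) hMc hdT (card_quot_dvd M hN) hMr h7T with h | ⟨h8, F, _, _, hF, ⟨e⟩⟩
  · exact iso_of_quot M h5 hN h
  · exfalso
    subst h8
    obtain ⟨ψ, hψ, hψ7⟩ := h7 rfl
    -- `M` is trivial
    have hc : Nat.card (H ⧸ M) = 20160 := by
      have h1 := S0243.result hF 3 (by norm_num)
      rw [← Nat.card_congr e.toEquiv, Fin.prod_univ_three] at h1
      norm_num at h1
      omega
    have hH8 : Nat.card H = 20160 := by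
      have h4 : Nat.factorial 8 = 40320 := by decide +kernel
      omega
    have hinj : Function.Injective (QuotientGroup.mk' M) :=
      ((Nat.bijective_iff_surjective_and_card _).2 ⟨QuotientGroup.mk'_surjective M, by rw [hc, hH8]⟩).1
    exact H937.L34.l34_no_seven hF
      ((MulEquiv.ofBijective (QuotientGroup.mk' M) ⟨hinj, QuotientGroup.mk'_surjective M⟩).trans e) ψ hψ hψ7

/-- **A group with the degree multiset of `S_n` is `S_n`** (given the classification and the Schreier property) -/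
theorem main {n : ℕ} (hkn : ∀ (X : Type u) [Group X] [Finite X] [IsSimpleGroup X], IsKnownSimple' X)
    (hS : Cfsg.Agent.Schreier.Cases.SchFor.{u} @IsKnownSimple') {G : Type u} [Group G] [Finite G]
    (f : IrrCharacter G ≃ IrrCharacter (Equiv.Perm (Fin n)))
    (hf : ∀ χ : IrrCharacter G, charDegree ((f χ) : Equiv.Perm (Fin n) → ℂ) = charDegree (χ : G → ℂ)) :
    Nonempty (G ≃* Equiv.Perm (Fin n)) := by
  by_cases h4 : n ≤ 4
  · exact H621.SymDeg.le_four h4 f hf
  have h5 : 5 ≤ n := by omega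
  have hi := index_eq_two f hf h5
  have hH := perfect f hf h5
  have hd := degOK f hf h5
  have hN := two_mul_card f hf h5
  have h : Nonempty (↥(commutator G) ≃* alternatingGroup (Fin n)) := by
    by_cases h9 : n ≤ 9
    · refine iso_small h5 h9 hkn hS hH hd hN ?_
      intro h8
      subst h8
      obtain ⟨χ, hχ, hχ7⟩ := H621.SymDeg.exists_deg (by norm_num) f hf
      have hfin : Fintype G := Fintype.ofFinite G
      have hc7 : charDegree χ = 7 := by
        have h1 := Blocks.Basic.irr_one_eq_charDegree hχ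
        rw [hχ7] at h1
        exact_mod_cast h1.symm
      refine ⟨fun x => χ x, H597.Degrees.isIrr_restrict_of_coprime _ hχ (by rw [hi, hc7]; norm_num), ?_⟩
      show χ ((1 : ↥(commutator G)) : G) = 7
      rw [OneMemClass.coe_one, hχ7]
      norm_num
    · exact iso_large (by omega) hkn hS hH hd hN
  obtain ⟨e⟩ := h
  exact H621.SymDeg.final_iso h5 e hi f hf

end Cfsg.Agent.H704
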