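import Cfsg.Agent.H704.LowDegree
import Cfsg.Agent.H704.Hooks

/-!
# Degrees of the symmetric groups that are prime powers, or twice prime powers (helper704)
-/

set_option autoImplicit false
set_option linter.unusedSectionVars false

namespace Cfsg.Agent.H704

open Finset

theorem le_four_of_not_dvd {x c p e : ℕ} (hp : p.Prime) (hc : 0 < c) (hc4 : c ≤ 4) (h : x ∣ c * p ^ e) (hx : ¬ p ∣ x) :
    x ≤ 4 := by
  have h1 : x.Coprime (p ^ e) := Nat.Coprime.pow_right e ((hp.coprime_iff_not_dvd).2 hx).symm
  exact (Nat.le_of_dvd hc (h1.dvd_of_dvd_mul_right h)).trans hc4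

theorem no_pp_one {n p e c : ℕ} (hn : 7 ≤ n) (hp : p.Prime) (hc : 0 < c) (hc4 : c ≤ 4)
    (h : (n - 1) * (n - 2) = c * p ^ e) : False := by
  by_cases h1 : p ∣ n - 1
  · by_cases h2 : p ∣ n - 2
    · have h3 : p ∣ (n - 1) - (n - 2) := Nat.dvd_sub h1 h2
      rw [show (n - 1) - (n - 2) = 1 by omega, Nat.dvd_one] at h3
      exact hp.one_lt.ne' h3
    · have := le_four_of_not_dvd hp hc hc4 (Dvd.intro_left _ h) h2
      omega
  · have := le_four_of_not_dvd hp hc hc4 (Dvd.intro _ h) h1
    omega

theorem no_pp_three {n p e c : ℕ} (hn : 16 ≤ n) (hp : p.Prime) (hc : 0 < c) (hc4 : c ≤ 4)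
    (h : n * (n - 3) = c * p ^ e) : False := by
  by_cases h1 : p ∣ n
  · by_cases h2 : p ∣ n - 3
    · have h3 : p ∣ n - (n - 3) := Nat.dvd_sub h1 h2
      rw [show n - (n - 3) = 3 by omega, Nat.prime_dvd_prime_iff_eq hp Nat.prime_three] at h3
      subst h3
      obtain ⟨y, rfl⟩ := h1
      have h4 : y ∣ c * 3 ^ e := by
        rw [← h]
        exact ⟨3 * (3 * y - 3), by ring⟩
      have h5 : (y - 1) ∣ c * 3 ^ e := by
        rw [← h, show 3 * y - 3 = 3 * (y - 1) by omega]
        exact ⟨3 * y * 3, by ring⟩
      by_cases h6 : 3 ∣ y
      · have := le_four_of_not_dvd hp hc hc4 h5 (by omega)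
        omega
      · have := le_four_of_not_dvd hp hc hc4 h4 h6
        omega
    · have := le_four_of_not_dvd hp hc hc4 (Dvd.intro_left _ h) h2
      omega
  · have := le_four_of_not_dvd hp hc hc4 (Dvd.intro _ h) h1
    omega

theorem deg_two_row {n d : ℕ} (hn : 7 ≤ n) {a : ℕ} (hl : IsPart [a, 2] n) (hd : d * hookProd [a, 2] = n.factorial) :
    2 * d = n * (n - 3) := by
  have hsum : a + 2 = n := by have := hl.sum; simpa using this
  have h := deg_mul_desc hl hd (f := 1) (by decide)
  have e1 : ∏ j ∈ range ([2].headD 0), (a - j + colLen [2] j) = (n - 1) * (n - 2) := by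
    rw [List.headD_cons, prod_range_succ, prod_range_succ, prod_range_zero, one_mul,
      show colLen [2] 0 = 1 from rfl, show colLen [2] 1 = 1 from rfl]
    congr 1 <;> omega
  rw [e1] at h
  simp only [List.sum_cons, List.sum_nil, List.headD_cons, add_zero] at h
  obtain ⟨m, rfl⟩ : ∃ m, n = m + 4 := ⟨n - 4, by omega⟩
  rw [show m + 4 - 1 = m + 3 by omega, show m + 4 - 2 = m + 2 by omega] at h
  rw [show m + 4 - 3 = m + 1 by omega]
  have h2 : (m + 4).descFactorial (2 + 2) = (m + 4) * (m + 3) * (m + 2) * (m + 1) := by
    simp only [Nat.descFactorial_succ, Nat.descFactorial_zero]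
    rw [show m + 4 - 0 = m + 4 by omega, show m + 4 - 1 = m + 3 by omega, show m + 4 - (1 + 1) = m + 2 by omega,
      show m + 4 - (1 + 1 + 1) = m + 1 by omega]
    ring
  rw [h2, show Nat.factorial 2 = 2 by rfl] at h
  apply Nat.eq_of_mul_eq_mul_right (show 0 < (m + 3) * (m + 2) by positivity)
  linarith

theorem deg_three_row {n d : ℕ} (hn : 7 ≤ n) {a : ℕ} (hl : IsPart [a, 1, 1] n)
    (hd : d * hookProd [a, 1, 1] = n.factorial) : 2 * d = (n - 1) * (n - 2) := by
  have hsum : a + 2 = n := by have := hl.sum; simpa using this
  have h := deg_mul_desc hl hd (f := 1) (by decide)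
  have e1 : ∏ j ∈ range ([1, 1].headD 0), (a - j + colLen [1, 1] j) = n := by
    rw [List.headD_cons, prod_range_succ, prod_range_zero, one_mul, show colLen [1, 1] 0 = 2 from rfl]
    omega
  rw [e1] at h
  simp only [List.sum_cons, List.sum_nil, List.headD_cons, add_zero] at h
  obtain ⟨m, rfl⟩ : ∃ m, n = m + 4 := ⟨n - 4, by omega⟩
  rw [show m + 4 - 1 = m + 3 by omega, show m + 4 - 2 = m + 2 by omega]
  have h2 : (m + 4).descFactorial (1 + 1 + 1) = (m + 4) * (m + 3) * (m + 2) := by
    simp only [Nat.descFactorial_succ, Nat.descFactorial_zero]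
    rw [show m + 4 - 0 = m + 4 by omega, show m + 4 - 1 = m + 3 by omega, show m + 4 - (1 + 1) = m + 2 by omega]
    ring
  rw [h2, show Nat.factorial (1 + 1) = 2 by rfl] at h
  apply Nat.eq_of_mul_eq_mul_right (show 0 < (m + 4) by positivity)
  linarith

theorem pp_core {n r s : ℕ} (hn : 19 ≤ n) (hr : r.Prime) (hs : s.Prime) (hrs : r < s) (hsn : s ≤ n) (h2 : n < 2 * r)
    (hin : ∀ m k, 3 ≤ m → 1 ≤ k → k ≤ m → m + k + r + s ≤ 2 * n + 1 →
      m.factorial * n * (m + k) * 2 ^ k < n.descFactorial (k - 1) * (n - (2 * k - 1)).descFactorial (m - k + 1))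
    {d p e : ℕ} (h : IsDeg n d) (hp : p.Prime) (he : 0 < e) (hd : d = p ^ e ∨ d = 2 * p ^ e) : d = n - 1 := by
  have hpe : 1 < p ^ e := Nat.one_lt_pow he.ne' hp.one_lt
  have hd1 : 1 < d := by rcases hd with h | h <;> omega
  by_cases hpn : n < 2 * p
  · -- a large prime
    have h3 : p ^ e ∣ n.factorial := by
      obtain ⟨l, _, hl⟩ := h
      refine dvd_trans ?_ (Dvd.intro _ hl)
      rcases hd with rfl | rfl
      · exact dvd_rfl
      · exact Dvd.intro_left 2 rfl
    have h4 : e ≤ 1 := by
      have h5 := (hp.pow_dvd_iff_le_factorization (Nat.factorial_pos n).ne').1 h3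
      have h6 : n.factorial.factorization p = 1 ∨ n.factorial.factorization p = 0 := by
        have hpp : p * p > n := by nlinarith [hp.two_le]
        have h7 : n.factorial.factorization p ≤ 1 := by
          by_contra hne
          have h8 : p ^ 2 ∣ n.factorial := (hp.pow_dvd_iff_le_factorization (Nat.factorial_pos n).ne').2 (by omega)
          rw [(hp.pow_dvd_factorial_iff (n := n) (r := 2) (b := 2) (by
            exact Nat.log_lt_of_lt_pow (by omega) (by rw [pow_two]; exact hpp)))] at h8
          have h9 : ∑ i ∈ Finset.Ico 1 2, n / p ^ i = n / p := by simp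
          rw [h9] at h8
          have h10 := (Nat.le_div_iff_mul_le hp.pos).1 h8
          omega
        omega
      omega
    have h5 : e = 1 := by omega
    subst h5
    rw [pow_one] at hd
    have h6 : p ≤ n := (hp.dvd_factorial).1 (by rwa [pow_one] at h3)
    rcases low_degree (by omega) h with h7 | h7 | h7
    · omega
    · exact h7
    · exfalso
      have h8 : 2 * d ≤ 4 * n := by rcases hd with h | h <;> omega
      obtain ⟨m, rfl⟩ := Nat.exists_eq_add_of_le hn
      rw [show 19 + m - 3 = 16 + m by omega] at h7
      nlinarith
  · have hnd : ∀ q : ℕ, q.Prime → r ≤ q → ¬ q ∣ d := by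
      intro q hq hrq hqd
      have h3 : q ∣ 2 * p ^ e := by
        rcases hd with rfl | rfl
        · exact hqd.trans (Dvd.intro_left 2 rfl)
        · exact hqd
      rcases hq.dvd_mul.1 h3 with h4 | h4
      · have := Nat.le_of_dvd (by norm_num) h4
        omega
      · have := Nat.le_of_dvd hp.pos (hq.dvd_of_dvd_pow h4)
        omega
    obtain ⟨l, hl, hdl⟩ := h
    obtain ⟨l', hl', hd', g1, g2, g3⟩ := exists_two_hooks hl hdl hr hs hrs h2 hsn (hnd r hr le_rfl) (hnd s hs hrs.le)
    cases l' with
    | nil => simp at g3
    | cons a t =>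
      cases t with
      | nil =>
        exfalso
        have hsum : a = n := by have := hl'.sum; simpa using this
        rcases low_part (by omega) hl' hd' (by rw [List.headD_cons]; omega) with h3 | h3
        · omega
        · rw [hookProd, hookProd, rowHook_nil, mul_one, hsum] at hd'
          have : d = 1 := Nat.eq_of_mul_eq_mul_right (Nat.factorial_pos n) (by rw [hd', one_mul])
          omega
      | cons b t =>
        have hb : 0 < b := hl'.pos b (by simp)
        have h3 := rows_of_hooks hl' g1 g2 (by simpa using hb)
        simp only [List.getD_cons_succ, List.getD_cons_zero, List.headD_cons] at h3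
        have hsum : a + (b :: t).sum = n := by have := hl'.sum; rwa [List.sum_cons] at this
        have hbs : b ≤ (b :: t).sum := by rw [List.sum_cons]; omega
        by_cases h1 : (b :: t).sum = 1
        · rcases low_part (by omega) hl' hd' (by rw [List.headD_cons]; omega) with h4 | h4
          · omega
          · exact h4
        · exfalso
          have hc : ∃ c : ℕ, 0 < c ∧ c ≤ 4 ∧ 2 * d = c * p ^ e := by
            rcases hd with h | h
            · exact ⟨2, by norm_num, by norm_num, by rw [h]⟩
            · exact ⟨4, by norm_num, by norm_num, by rw [h]; ring⟩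
          obtain ⟨c, hc0, hc4, hcd⟩ := hc
          by_cases h22 : (b :: t).sum = 2
          · -- two cells below the first row
            have hb2 : b = 1 ∨ b = 2 := by omega
            rcases hb2 with rfl | rfl
            · have ht : t = [1] := by
                rw [List.sum_cons] at h22
                cases t with
                | nil => simp at h22
                | cons x t =>
                  have hx : 0 < x := hl'.pos x (by simp)
                  rw [List.sum_cons] at h22
                  have ht' : t = [] := by
                    rw [List.eq_nil_iff_forall_not_mem]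
                    intro y hy
                    have h5 := hl'.pos y (by simp [hy])
                    have h6 := List.single_le_sum (by simp) y hy
                    omega
                  rw [ht']
                  congr 1
                  omega
              subst ht
              have h4 := deg_three_row (by omega) hl' hd'
              exact no_pp_one (by omega) hp hc0 hc4 (h4 ▸ hcd)
            · have ht : t = [] := by
                rw [List.sum_cons] at h22
                rw [List.eq_nil_iff_forall_not_mem]
                intro y hy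
                have h5 := hl'.pos y (by simp [hy])
                have h6 := List.single_le_sum (by simp) y hy
                omega
              subst ht
              have h4 := deg_two_row (by omega) hl' hd'
              exact no_pp_three (by omega) hp hc0 hc4 (h4 ▸ hcd)
          · obtain ⟨f, hf0, hf⟩ := exists_deg hl'.sorted.of_cons (n := (b :: t).sum) rfl
            have h5 := lower_bound hl' hd' rfl rfl (by rw [List.headD_cons]; omega) hf
            have h6 := upper_bound hl' hd' rfl rfl (by rw [List.headD_cons]; omega) hf hp hd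
            rw [List.headD_cons] at h5 h6
            have h7 := hin (b :: t).sum b (by omega) (by omega) (by omega) (by omega)
            have h8 : f * ((b :: t).sum.factorial * n * ((b :: t).sum + b) * 2 ^ b) <
                f * (n.descFactorial (b - 1) * (n - (2 * b - 1)).descFactorial ((b :: t).sum - b + 1)) :=
              Nat.mul_lt_mul_of_pos_left h7 hf0
            have h9 : d * (b :: t).sum.factorial ≤ (f * n * ((b :: t).sum + b) * 2 ^ b) * (b :: t).sum.factorial :=
              Nat.mul_le_mul_right _ h6
            have h10 : (f * n * ((b :: t).sum + b) * 2 ^ b) * (b :: t).sum.factorial =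
              f * ((b :: t).sum.factorial * n * ((b :: t).sum + b) * 2 ^ b) := by ring
            omega

end Cfsg.Agent.H704
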